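import Groth.Agent.Isoc53.Semisimple
import Mathlib

/-!
Classification over an algebraically closed field.
-/

set_option autoImplicit false
set_option linter.unusedSectionVars false
universe u v w
open scoped Isocrystal

namespace Groth.Agent.Isoc53

variable {p : ℕ} [Fact p.Prime] {k : Type u} [Field k] [CharP k p] [PerfectRing k p]

/-- `F` is a finite direct sum of standard isocrystals. -/
def HasDecomp {τ : K(p, k) →+* K(p, k)} {N : Type v} [AddCommGroup N] [Module K(p, k) N]
    (F : N →ₛₗ[τ] N) : Prop :=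
  ∃ (t : ℕ) (d : Fin t → ℤ) (h : Fin t → ℕ)
    (g : ((i : Fin t) → (Fin (h i) → K(p, k))) ≃ₗ[K(p, k)] N),
    (∀ i, 0 < h i ∧ Int.gcd (d i) (h i) = 1) ∧
      ∀ x, g (fun i => Isoc.stdIsoc τ (d i) (h i) (x i)) = F (g x)

variable [IsAlgClosed k] {a : ℤ}

theorem hasDecomp_aux (ha : a ≠ 0) (n : ℕ) :
    ∀ (N : Type v) [AddCommGroup N] [Module (WittVector p k) N] [Module K(p, k) N]
      [IsScalarTower (WittVector p k) K(p, k) N] [Module.Finite K(p, k) N]
      (F : N →ₛₗ[Isoc.frob p k a] N),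
      Function.Bijective F → Module.finrank K(p, k) N = n → HasDecomp F := by
  have hτ := good_frob (p := p) (k := k) a
  induction n using Nat.strong_induction_on with
  | _ n ih =>
    intro N _ _ _ _ _ F hF hn
    rcases subsingleton_or_nontrivial N with hs | hs
    · exact ⟨0, Fin.elim0, Fin.elim0, LinearEquiv.ofSubsingleton _ _, fun i => i.elim0,
        fun x => Subsingleton.elim _ _⟩
    obtain ⟨v, ⟨d, h, hh, hdh, hv⟩, hv0⟩ : ∃ v ∈ stdVectors F, v ≠ 0 := by
      by_contra hne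
      push Not at hne
      refine (top_ne_bot : (⊤ : Submodule K(p, k) N) ≠ ⊥) ?_
      rw [← span_stdVectors ha hF, Submodule.span_eq_bot]
      exact hne
    obtain ⟨f, hf, hvf⟩ := exists_hom_of_stdVector hh hv
    have hinj : Function.Injective f := by
      rw [← LinearMap.ker_eq_bot]
      refine (stdIsoc_simple hτ hh hdh (LinearMap.ker f) (fun x hx => by
        rw [LinearMap.mem_ker, hf, LinearMap.mem_ker.1 hx, map_zero])).resolve_right fun ht => ?_
      obtain ⟨x, rfl⟩ := hvf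
      exact hv0 (LinearMap.mem_ker.1 (ht ▸ Submodule.mem_top))
    obtain ⟨Q, hQ, hc⟩ := exists_isCompl ha hF (LinearMap.range f) (by
      rintro _ ⟨x, rfl⟩
      exact ⟨_, hf x⟩)
    have hlt : Module.finrank K(p, k) Q < n := by
      have h1 := Submodule.finrank_add_eq_of_isCompl hc
      rw [LinearMap.finrank_range_of_inj hinj, Module.finrank_fin_fun] at h1
      omega
    obtain ⟨t, d', h', g, hdh', hg⟩ := ih _ hlt Q (F.restrict hQ) (restrict_bijective hτ hF hQ) rfl
    let G : ((i : Fin (t + 1)) → (Fin ((Fin.cons h h' : Fin (t + 1) → ℕ) i) → K(p, k))) →ₗ[K(p, k)] N :=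
      (f ∘ₗ (LinearMap.proj 0)) +
        (Q.subtype ∘ₗ g.toLinearMap ∘ₗ LinearMap.pi fun i : Fin t => LinearMap.proj i.succ)
    have hG : ∀ x, G x = f (x 0) + ((g fun i => x i.succ : Q) : N) := fun x => rfl
    have hGb : Function.Bijective G := by
      refine ⟨(injective_iff_map_eq_zero G).2 fun x hx => ?_, fun y => ?_⟩
      · rw [hG] at hx
        have hx0 : f (x 0) = 0 := Submodule.disjoint_def.1 hc.disjoint _ ⟨_, rfl⟩ (by
          rw [eq_neg_of_add_eq_zero_left hx]; exact Q.neg_mem (Subtype.coe_prop _))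
        rw [hx0, zero_add, Submodule.coe_eq_zero] at hx
        replace hx := g.map_eq_zero_iff.1 hx
        funext i
        refine Fin.cases ?_ (fun j => congrFun hx j) i
        exact hinj (by rw [hx0]; exact (map_zero f).symm)
      · obtain ⟨_, ⟨x, rfl⟩, q, hq, rfl⟩ := Submodule.mem_sup.1
          (hc.sup_eq_top ▸ Submodule.mem_top : y ∈ LinearMap.range f ⊔ Q)
        obtain ⟨z, hz⟩ := g.surjective ⟨q, hq⟩
        refine ⟨Fin.cons (α := fun i => Fin ((Fin.cons h h' : Fin (t + 1) → ℕ) i) → K(p, k)) x z, ?_⟩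
        rw [hG]
        exact congrArg (fun q : Q => f x + (q : N)) hz
    refine ⟨t + 1, Fin.cons d d', Fin.cons h h', LinearEquiv.ofBijective G hGb,
      Fin.cases ⟨hh, hdh⟩ hdh', fun x => ?_⟩
    rw [LinearEquiv.ofBijective_apply, LinearEquiv.ofBijective_apply, hG, hG, map_add]
    refine congrArg₂ (· + ·) (hf (x 0)) ?_
    exact congrArg Subtype.val (hg fun i => x i.succ)

theorem exists_equiv (ha : a ≠ 0) {N : Type v} [AddCommGroup N] [Module (WittVector p k) N]
    [Module K(p, k) N] [IsScalarTower (WittVector p k) K(p, k) N] [Module.Finite K(p, k) N]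
    {F : N →ₛₗ[Isoc.frob p k a] N} (hF : Function.Bijective F) :
    ∃ (t : ℕ) (d : Fin t → ℤ) (h : Fin t → ℕ)
      (e : N ≃ₗ[K(p, k)] ((i : Fin t) → (Fin (h i) → K(p, k)))),
      (∀ i, 0 < h i ∧ Int.gcd (d i) (h i) = 1) ∧
      (∀ (x : N) (i : Fin t), e (F x) i = Isoc.stdIsoc (Isoc.frob p k a) (d i) (h i) (e x i)) ∧
      ∀ μ : ℚ, Isoc.newtonMult F μ = ∑ i : Fin t, (if ((d i : ℚ) / (h i : ℚ)) = μ then h i else 0) := by
  classical
  have hτ := good_frob (p := p) (k := k) a
  obtain ⟨t, d, h, g, hdh, hg⟩ := hasDecomp_aux ha _ N F hF rfl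
  refine ⟨t, d, h, g.symm, hdh, fun x i => ?_, fun μ => ?_⟩
  · have h1 := hg (g.symm x)
    rw [LinearEquiv.apply_symm_apply] at h1
    rw [← h1, LinearEquiv.symm_apply_apply]
  let sgl : ∀ i, (Fin (h i) → K(p, k)) →ₗ[K(p, k)] N := fun i =>
    g.toLinearMap ∘ₗ LinearMap.single K(p, k) (fun i => Fin (h i) → K(p, k)) i
  have hsgl : ∀ i y, sgl i (Isoc.stdIsoc (Isoc.frob p k a) (d i) (h i) y) = F (sgl i y) := by
    intro i y
    refine Eq.trans ?_ (hg (Pi.single i y))
    change g (Pi.single i _) = _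
    congr 1
    funext j
    rcases eq_or_ne j i with rfl | hne
    · rw [Pi.single_eq_same, Pi.single_eq_same]
    · rw [Pi.single_eq_of_ne hne, Pi.single_eq_of_ne hne, map_zero]
  have hle : ∀ i, LinearMap.range (sgl i) ≤ Isoc.slopePart F ((d i : ℚ) / (h i : ℚ)) := by
    intro i
    have htop : IsoPart (Isoc.stdIsoc (Isoc.frob p k a) (d i) (h i)) ((d i : ℚ) / (h i : ℚ)) ⊤ := by
      obtain ⟨M, hM, r, s, hs, hrs, he⟩ := isIsoclinic_stdIsoc hτ (d i) (hdh i).1
      exact ⟨fun _ _ => trivial, M, r, s, hM.fg, hM.span_eq_top, hs, hrs, he⟩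
    rw [← Submodule.map_top]
    exact (htop.map hτ (sgl i) (hsgl i)).le_slopePart hτ
  let B : ℚ → Submodule K(p, k) N := fun ν =>
    ⨆ i : {i : Fin t // ((d i : ℚ) / (h i : ℚ)) = ν}, LinearMap.range (sgl i.1)
  have hBle : ∀ ν, B ν ≤ Isoc.slopePart F ν := fun ν => iSup_le fun i => (hle i.1).trans (by rw [i.2])
  have htop : ∀ x : N, x = ∑ i, sgl i (g.symm x i) := fun x => by
    simp only [sgl, LinearMap.comp_apply, LinearMap.single_apply, LinearEquiv.coe_coe]
    rw [← map_sum, Finset.univ_sum_single, LinearEquiv.apply_symm_apply]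
  have hBtop : ⨆ ν, B ν = ⊤ := eq_top_iff.2 fun x _ => by
    rw [htop x]
    exact Submodule.sum_mem _ fun i _ => Submodule.mem_iSup_of_mem ((d i : ℚ) / (h i : ℚ))
      (Submodule.mem_iSup_of_mem ⟨i, rfl⟩ ⟨_, rfl⟩)
  have hind := (isInternal_slopePart (N := N) hτ hF).submodule_iSupIndep
  have heq : Isoc.slopePart F μ = B μ := by
    refine le_antisymm (fun x hx => ?_) (hBle μ)
    have h1 : x ∈ B μ ⊔ ⨆ (ν : ℚ) (_ : ν ≠ μ), Isoc.slopePart F ν := by
      refine (?_ : (⊤ : Submodule K(p, k) N) ≤ _) Submodule.mem_top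
      rw [← hBtop]
      refine iSup_le fun ν => ?_
      rcases eq_or_ne ν μ with rfl | hne
      · exact le_sup_left
      · exact (hBle ν).trans ((le_iSup₂ (f := fun ν (_ : ν ≠ μ) => Isoc.slopePart F ν) ν hne).trans le_sup_right)
    obtain ⟨b, hb, c, hc, rfl⟩ := Submodule.mem_sup.1 h1
    have hc0 : c = 0 := Submodule.disjoint_def.1 (hind μ) c
      (by have := sub_mem hx (hBle μ hb); rwa [add_sub_cancel_left] at this) hc
    rw [hc0, add_zero]
    exact hb
  let J := {i : Fin t // ((d i : ℚ) / (h i : ℚ)) = μ}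
  let ψ : ((j : J) → (Fin (h j.1) → K(p, k))) →ₗ[K(p, k)] N :=
    ∑ j : J, sgl j.1 ∘ₗ LinearMap.proj j
  have hψrange : LinearMap.range ψ = B μ := by
    refine le_antisymm ?_ (iSup_le fun j => ?_)
    · rintro _ ⟨y, rfl⟩
      rw [LinearMap.sum_apply]
      exact Submodule.sum_mem _ fun j _ => Submodule.mem_iSup_of_mem j ⟨_, rfl⟩
    · rintro _ ⟨y, rfl⟩
      refine ⟨Pi.single j y, ?_⟩
      rw [LinearMap.sum_apply, Finset.sum_eq_single j]
      · simp
      · intro l _ hl; simp [Pi.single_eq_of_ne hl]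
      · simp
  have hψinj : Function.Injective ψ := by
    rw [injective_iff_map_eq_zero]
    intro y hy
    funext j
    have h2 := congrFun (congrArg g.symm hy) j.1
    simp only [ψ, sgl, LinearMap.sum_apply, LinearMap.comp_apply, LinearMap.single_apply, map_sum,
      LinearEquiv.coe_coe, LinearEquiv.symm_apply_apply, map_zero, Finset.sum_apply] at h2
    rw [Finset.sum_eq_single j] at h2
    · simpa using h2
    · intro l _ hl
      exact Pi.single_eq_of_ne (fun e => hl (Subtype.ext e.symm)) _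
    · simp
  rw [Isoc.newtonMult, show Module.finrank K(p, k) (Isoc.slopePart F μ)
    = Module.finrank K(p, k) (LinearMap.range ψ) by rw [hψrange, heq],
    LinearMap.finrank_range_of_inj hψinj, Module.finrank_pi_fintype]
  simp only [Module.finrank_fin_fun, J]
  rw [← Finset.sum_filter, Finset.sum_subtype (Finset.univ.filter fun i => ((d i : ℚ) / (h i : ℚ)) = μ)
    (p := fun i => ((d i : ℚ) / (h i : ℚ)) = μ) (fun i => by simp)]

end Groth.Agent.Isoc53
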