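import Groth.Agent.Isoc53.Slope
import Mathlib

/-!
Effectivity and rationality of the first slope.
-/

set_option autoImplicit false
set_option linter.unusedSectionVars false
universe u v w
open scoped Isocrystal
open Filter Topology

namespace Groth.Agent.Isoc53

variable {p : ℕ} [Fact p.Prime] {k : Type u} [Field k] [CharP k p] [PerfectRing k p]
variable {N : Type v} [AddCommGroup N] [Module (WittVector p k) N] [Module K(p, k) N]
  [IsScalarTower (WittVector p k) K(p, k) N]
variable {τ : K(p, k) →+* K(p, k)} {F : N →ₛₗ[τ] N}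

/-- `M + F M + ⋯ + F^j M`. -/
noncomputable def partialSum (F : N →ₛₗ[τ] N) (M : Submodule (WittVector p k) N) :
    ℕ → Submodule (WittVector p k) N
  | 0 => M
  | j + 1 => M ⊔ Isoc.latImg F 1 (partialSum F M j)

theorem partialSum_mono_succ (hτ : Good τ) (M : Submodule (WittVector p k) N) (j : ℕ) :
    partialSum F M j ≤ partialSum F M (j + 1) := by
  induction j with
  | zero => exact le_sup_left
  | succ j ih => exact sup_le_sup_left (latImg_mono 1 ih) M

theorem partialSum_succ_le (hτ : Good τ) (M : Submodule (WittVector p k) N) (j : ℕ) :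
    partialSum F M (j + 1) ≤ partialSum F M j ⊔ Isoc.latImg F (j + 1) M := by
  induction j with
  | zero => exact le_rfl
  | succ j ih =>
    refine sup_le (le_sup_of_le_left le_sup_left) ?_
    refine (latImg_mono 1 ih).trans ?_
    rw [latImg_sup hτ, latImg_latImg hτ, add_comm 1 (j + 1)]
    exact sup_le_sup_right le_sup_right _

theorem isLattice_partialSum (hτ : Good τ) (hF : Function.Bijective F) (M : Submodule (WittVector p k) N)
    [M.IsLattice K(p, k)] (j : ℕ) : (partialSum F M j).IsLattice K(p, k) := by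
  induction j with
  | zero => assumption
  | succ j ih =>
    haveI := ih
    haveI := isLattice_latImg hτ hF 1 (partialSum F M j)
    exact Submodule.IsLattice.sup K(p, k) M (Isoc.latImg F 1 (partialSum F M j))

theorem isEffective_of_partialSum_le (hτ : Good τ) (hF : Function.Bijective F)
    (M : Submodule (WittVector p k) N) [M.IsLattice K(p, k)] (j : ℕ)
    (h : partialSum F M (j + 1) ≤ partialSum F M j) : Isoc.IsEffective F :=
  ⟨_, isLattice_partialSum hτ hF M j, le_sup_right.trans h⟩

theorem p_dvd_of_coeff_zero {a : WittVector p k} (h : a.coeff 0 = 0) : (p : WittVector p k) ∣ a := by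
  rcases eq_or_ne a 0 with rfl | ha
  · exact dvd_zero _
  obtain ⟨m, b, hb, rfl⟩ := WittVector.exists_eq_pow_p_mul a ha
  rcases m with - | m
  · rw [pow_zero, one_mul] at h; exact absurd h hb
  · exact dvd_mul_of_dvd_left (dvd_pow_self _ (Nat.succ_ne_zero m)) _

theorem pPow_one_eq (M : Submodule (WittVector p k) N) :
    Isoc.pPow 1 M = Ideal.span {(p : WittVector p k)} • M := by
  rw [Submodule.ideal_span_singleton_smul]
  ext x
  rw [Isoc.pPow, Submodule.mem_smul_pointwise_iff_exists, Submodule.mem_smul_pointwise_iff_exists]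
  refine exists_congr fun y => and_congr_right fun _ => ?_
  rw [zpow_one, ← map_natCast (ι p k) p, ι_smul]

variable [Module.Finite K(p, k) N]

theorem isEffective_of_latImg_le (hτ : Good τ) (hF : Function.Bijective F) (M : Submodule (WittVector p k) N)
    [M.IsLattice K(p, k)]
    (hM : Isoc.latImg F (Module.finrank K(p, k) N + 1) M ≤ Isoc.pPow (-1) M) : Isoc.IsEffective F := by
  classical
  set h := Module.finrank K(p, k) N with hh
  set A := partialSum F M with hA
  haveI hAl := isLattice_partialSum hτ hF M h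
  have hmono : Monotone A := monotone_nat_of_le_succ (partialSum_mono_succ hτ M)
  have hstep : A (h + 1) ≤ A h ⊔ Isoc.pPow (-1) M :=
    (partialSum_succ_le hτ M h).trans (sup_le_sup_left hM _)
  obtain ⟨bW⟩ : Nonempty (Module.Basis (Fin h) (WittVector p k) (A h)) := by
    have hr : Module.finrank (WittVector p k) (A h) = h :=
      Module.finrank_eq_of_rank_eq (by rw [Submodule.IsLattice.rank' K(p, k), ← Module.finrank_eq_rank])
    exact ⟨Module.finBasisOfFinrankEq _ _ hr⟩
  let π : A h →ₛₗ[(WittVector.constantCoeff : WittVector p k →+* k)] (Fin h → k) :=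
    { toFun := fun x i => WittVector.constantCoeff (bW.repr x i)
      map_add' := fun x y => by funext i; change WittVector.constantCoeff (bW.repr (x + y) i) = _; rw [map_add, Finsupp.add_apply, map_add]; rfl
      map_smul' := fun c x => by funext i; change WittVector.constantCoeff (bW.repr (c • x) i) = _; rw [map_smul, Finsupp.smul_apply, smul_eq_mul, map_mul]; rfl }
  haveI : RingHomSurjective (WittVector.constantCoeff : WittVector p k →+* k) :=
    ⟨fun a => ⟨WittVector.teichmuller p a, WittVector.teichmuller_coeff_zero p a⟩⟩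
  have hker : ∀ x : A h, π x = 0 → (x : N) ∈ Isoc.pPow 1 (A h) := by
    intro x hx
    choose c hc using fun i => p_dvd_of_coeff_zero (p := p) (k := k) (congrFun hx i)
    rw [show x = (p : WittVector p k) • ∑ i, c i • bW i by
      conv_lhs => rw [← bW.sum_repr x]
      simp only [Finset.smul_sum, smul_smul, ← hc], pPow_one_eq]
    exact Submodule.smul_mem_smul (Ideal.mem_span_singleton_self _) (Subtype.mem _)
  let V : ℕ → Submodule k (Fin h → k) := fun j => ((A j).comap (A h).subtype).map π
  have hVmono : Monotone V := fun i j hij => Submodule.map_mono (Submodule.comap_mono (hmono hij))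
  have hback : ∀ i j, i ≤ h → V i ≤ V j → A i ≤ A j ⊔ Isoc.pPow 1 (A h) := by
    intro i j hi hij x hx
    obtain ⟨y, hy, hyx⟩ := hij ⟨⟨x, hmono hi hx⟩, hx, rfl⟩
    rw [← add_sub_cancel (y : N) x]
    refine Submodule.add_mem_sup hy (hker (⟨x, hmono hi hx⟩ - y) ?_)
    rw [map_sub, hyx, sub_self]
  by_cases hex : ∃ j, j < h ∧ V (j + 1) ≤ V j
  · obtain ⟨j, hjh, hj⟩ := hex
    have hall : ∀ i, A i ≤ A j ⊔ Isoc.pPow 1 (A h) := by
      intro i
      induction i with
      | zero => exact le_sup_of_le_left (hmono (Nat.zero_le j))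
      | succ i ih =>
        have h1 : A (j + 1) ≤ A j ⊔ Isoc.pPow 1 (A h) := hback _ _ hjh hj
        refine sup_le (le_sup_of_le_left (hmono (Nat.zero_le j))) ?_
        refine (latImg_mono 1 ih).trans ?_
        rw [latImg_sup hτ, latImg_pPow hτ]
        refine sup_le (le_sup_right.trans h1) ?_
        refine (pPow_mono 1 (le_sup_right : _ ≤ A (h + 1))).trans ?_
        refine (pPow_mono 1 hstep).trans ?_
        rw [pPow_sup, pPow_pPow, add_neg_cancel, pPow_zero]
        exact sup_le le_sup_right (le_sup_of_le_left (hmono (Nat.zero_le j)))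
    have hle : A h ≤ A j := by
      refine Submodule.le_of_le_smul_of_le_jacobson_bot hAl.fg
        (I := Ideal.span {(p : WittVector p k)}) ?_ ?_
      · rw [IsLocalRing.jacobson_eq_maximalIdeal ⊥ bot_ne_top, Ideal.span_singleton_le_iff_mem,
          IsLocalRing.mem_maximalIdeal]
        exact not_isUnit_p
      · rw [← pPow_one_eq]; exact hall h
    exact isEffective_of_partialSum_le hτ hF M j ((hmono (show j + 1 ≤ h from hjh)).trans hle)
  · have hlt : ∀ j, j < h → V j < V (j + 1) := fun j hj =>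
      lt_of_le_not_ge (hVmono (Nat.le_succ j)) fun hc => hex ⟨j, hj, hc⟩
    have hdim : ∀ j, j ≤ h → Module.finrank k (V 0) + j ≤ Module.finrank k (V j) := by
      intro j
      induction j with
      | zero => intro _; simp
      | succ j ih =>
        intro hj
        have := Submodule.finrank_lt_finrank_of_lt (hlt j hj)
        have := ih (by omega)
        omega
    have h0 : Module.finrank k (V 0) = 0 := by
      have h1 := hdim h le_rfl
      have h2 := Submodule.finrank_le (V h)
      rw [Module.finrank_fin_fun] at h2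
      omega
    have hV0 : V 0 = ⊥ := Submodule.finrank_eq_zero.1 h0
    refine isEffective_of_partialSum_le hτ hF M h (hstep.trans (sup_le le_rfl ?_))
    rw [pPow_le_iff, neg_neg]
    intro x hx
    have hxh : x ∈ A h := hmono (Nat.zero_le h) hx
    refine hker ⟨x, hxh⟩ ((Submodule.mem_bot k).1 (hV0 ▸ ?_))
    exact ⟨⟨x, hxh⟩, hx, rfl⟩

theorem exists_lattice_of_div_le (hτ : Good τ) (hF : Function.Bijective F) {l : ℝ}
    (hl : Isoc.IsFirstSlope F l) (r : ℤ) (s : ℕ) (hs : 0 < s) (hrs : (r : ℝ) / s ≤ l) :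
    ∃ M : Submodule (WittVector p k) N, M.IsLattice K(p, k) ∧ Isoc.latImg F s M ≤ Isoc.pPow r M := by
  set h := Module.finrank K(p, k) N with hh
  obtain ⟨M, hM⟩ := exists_lattice (p := p) (k := k) (N := N)
  set m' : ℤ := -r * ((h + 1 : ℕ) : ℤ) + 1 with hm'
  set n' : ℕ := s * (h + 1) with hn'
  have hG' := twist_bijective hF m' n'
  obtain ⟨o, ho, hlim⟩ := tendsto_of_isFirstSlope (hτ.pow n') hG'
    (isFirstSlope_twist hτ hF hl m' n') M
  have hpos : (0 : ℝ) < (n' : ℝ) * l + m' := by
    rw [div_le_iff₀ (by exact_mod_cast hs)] at hrs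
    have hh1 : (0 : ℝ) ≤ (h : ℝ) + 1 := by positivity
    have := mul_le_mul_of_nonneg_right hrs hh1
    simp only [hm', hn']
    push_cast
    linarith
  obtain ⟨j, hj, hoj⟩ : ∃ j : ℕ, 1 ≤ j ∧ 0 ≤ o j := by
    obtain ⟨j, hj, hj'⟩ := ((eventually_ge_atTop 1).and (hlim.eventually_const_lt hpos)).exists
    refine ⟨j, hj, ?_⟩
    by_contra hneg
    have : (o j : ℝ) / j ≤ 0 := div_nonpos_of_nonpos_of_nonneg
      (by exact_mod_cast (not_le.1 hneg).le) (Nat.cast_nonneg j)
    linarith
  set G' := (p : K(p, k)) ^ m' • Isoc.iter F n'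
  have hle : Isoc.latImg G' j M ≤ M := by
    refine (ho j hj).1.trans ?_
    have := pPow_le_pPow hoj M
    rwa [pPow_zero] at this
  obtain ⟨i, rfl⟩ := Nat.exists_eq_succ_of_ne_zero (by omega : j ≠ 0)
  obtain ⟨M', hM', hG'M'⟩ : Isoc.IsEffective G' :=
    isEffective_of_partialSum_le (hτ.pow n') hG' M i
      ((partialSum_succ_le (hτ.pow n') M i).trans (sup_le le_rfl
        (hle.trans (Monotone.imp (monotone_nat_of_le_succ (partialSum_mono_succ (hτ.pow n') M))
          (Nat.zero_le i)))))
  haveI := hM'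
  set G := (p : K(p, k)) ^ (-r) • Isoc.iter F s
  have hG : Isoc.latImg G (h + 1) M' ≤ Isoc.pPow (-1) M' := by
    rw [latImg_twist hτ, pPow_le_iff]
    rw [latImg_twist hτ, Nat.cast_one, mul_one, mul_one, pPow_le_iff] at hG'M'
    rw [pPow_pPow]
    refine hG'M'.trans (le_of_eq ?_)
    congr 1
    simp only [hm']
    push_cast; ring
  obtain ⟨M'', hM'', hGM⟩ := isEffective_of_latImg_le (hτ.pow s) (twist_bijective hF (-r) s) M' hG
  refine ⟨M'', hM'', ?_⟩
  rw [latImg_twist hτ, Nat.cast_one, mul_one, mul_one, pPow_le_iff, neg_neg] at hGM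
  exact hGM

theorem isEffective_iff_nonneg (hτ : Good τ) (hF : Function.Bijective F) {l : ℝ}
    (hl : Isoc.IsFirstSlope F l) : Isoc.IsEffective F ↔ 0 ≤ l := by
  constructor
  · rintro ⟨M, hM, h⟩
    haveI := hM
    have := div_le_of_latImg_le hτ hF hl Nat.one_pos (r := 0) (by rwa [pPow_zero])
    simpa using this
  · intro h
    obtain ⟨M, hM, hle⟩ := exists_lattice_of_div_le hτ hF hl 0 1 Nat.one_pos (by simpa using h)
    exact ⟨M, hM, by rwa [pPow_zero] at hle⟩

/-- No multiple of the first slope lies in `[-1/(h+1), 0)` modulo integers. -/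
theorem not_mem_gap (hτ : Good τ) (hF : Function.Bijective F) {l : ℝ} (hl : Isoc.IsFirstSlope F l)
    (m : ℤ) (n : ℕ) (h1 : -1 / ((Module.finrank K(p, k) N : ℝ) + 1) ≤ n * l + m) :
    0 ≤ (n : ℝ) * l + m := by
  have hG := twist_bijective hF m n
  have hl' := isFirstSlope_twist hτ hF hl m n
  obtain ⟨M, hM, hle⟩ := exists_lattice_of_div_le (hτ.pow n) hG hl' (-1) (Module.finrank K(p, k) N + 1)
    (Nat.succ_pos _) (by push_cast; exact h1)
  haveI := hM
  exact (isEffective_iff_nonneg (hτ.pow n) hG hl').1 (isEffective_of_latImg_le (hτ.pow n) hG M hle)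

theorem exists_int_eq_mul (hτ : Good τ) (hF : Function.Bijective F) {l : ℝ}
    (hl : Isoc.IsFirstSlope F l) :
    ∃ (r : ℤ) (s : ℕ), 0 < s ∧ s ≤ Module.finrank K(p, k) N ∧ l = (r : ℝ) / s := by
  haveI := nontrivial_of_isFirstSlope hτ hF hl
  set h := Module.finrank K(p, k) N
  have hh : 0 < h := Module.finrank_pos
  obtain ⟨j, s', hs0, hsh, habs⟩ := Real.exists_int_int_abs_mul_sub_le l hh
  obtain ⟨s, rfl⟩ : ∃ s : ℕ, s' = (s : ℤ) := ⟨s'.toNat, by omega⟩
  have hs : 0 < s := by omega
  refine ⟨j, s, hs, by omega, ?_⟩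
  rw [eq_div_iff (by exact_mod_cast hs.ne'), ← sub_eq_zero]
  push_cast at habs
  rw [mul_comm]
  set δ : ℝ := (s : ℝ) * l - j with hδ
  have hb := abs_le.1 habs
  by_contra hne
  rcases lt_or_gt_of_ne hne with hneg | hpos
  · have hgap := not_mem_gap hτ hF hl (-j) s (by
      rw [neg_div]
      push_cast
      rw [show (s : ℝ) * l + -(j : ℝ) = δ by rw [hδ]; ring]
      exact hb.1)
    push_cast at hgap
    linarith
  · obtain ⟨n, hn1, hn2⟩ : ∃ n : ℕ, (n : ℝ) * δ < 1 ∧ 1 ≤ ((n : ℝ) + 1) * δ := by
      have hc : 0 < ⌈1 / δ⌉₊ := Nat.ceil_pos.2 (by positivity)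
      refine ⟨⌈1 / δ⌉₊ - 1, ?_, ?_⟩
      · have := Nat.ceil_lt_add_one (show (0 : ℝ) ≤ 1 / δ by positivity)
        rw [Nat.cast_sub hc, Nat.cast_one, ← lt_div_iff₀ hpos]
        linarith
      · rw [Nat.cast_sub hc, Nat.cast_one, sub_add_cancel, ← div_le_iff₀ hpos]
        exact Nat.le_ceil _
    have hgap := not_mem_gap hτ hF hl (-((n : ℤ) * j) - 1) (n * s) (by
      push_cast
      have h2 := hb.2
      rw [neg_div]
      nlinarith [hn2, h2])
    push_cast at hgap
    nlinarith [hn1]

end Groth.Agent.Isoc53
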