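import Groth.Agent.Isoc53.Fitting
import Groth.Agent.Isoc53.Effective
import Mathlib

/-!
The slope decomposition of an isocrystal.
-/

set_option autoImplicit false
set_option linter.unusedSectionVars false
universe u v w
open scoped Isocrystal

namespace Groth.Agent.Isoc53

variable {p : ℕ} [Fact p.Prime] {k : Type u} [Field k] [CharP k p] [PerfectRing k p]
variable {τ : K(p, k) →+* K(p, k)}
variable {N : Type v} [AddCommGroup N] [Module (WittVector p k) N] [Module K(p, k) N]
  [IsScalarTower (WittVector p k) K(p, k) N] {F : N →ₛₗ[τ] N}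

theorem apply_mem_span_latImg {X : Submodule (WittVector p k) N} {x : N}
    (hx : x ∈ Submodule.span K(p, k) (X : Set N)) :
    F x ∈ Submodule.span K(p, k) (Isoc.latImg F 1 X : Set N) := by
  induction hx using Submodule.span_induction with
  | mem y hy => exact Submodule.subset_span (image_mem_latImg (s := 1) hy)
  | zero => rw [map_zero]; exact zero_mem _
  | add y z _ _ hy hz => rw [map_add]; exact add_mem hy hz
  | smul c y _ hy => rw [LinearMap.map_smulₛₗ]; exact Submodule.smul_mem _ _ hy

theorem span_pPow_eq (i : ℤ) (X : Submodule (WittVector p k) N) :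
    Submodule.span K(p, k) (Isoc.pPow i X : Set N) = Submodule.span K(p, k) (X : Set N) := by
  refine le_antisymm (Submodule.span_le.2 fun x hx => ?_) (Submodule.span_le.2 fun x hx => ?_)
  · exact (Submodule.smul_mem_iff _ (zpow_p_ne_zero (-i))).1 (Submodule.subset_span (mem_pPow.1 hx))
  · refine (Submodule.smul_mem_iff _ (zpow_p_ne_zero (p := p) (k := k) i)).1 (Submodule.subset_span ?_)
    rw [SetLike.mem_coe, mem_pPow, smul_smul, ← zpow_add₀ p_ne_zero, neg_add_cancel, zpow_zero, one_smul]
    exact hx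

variable [Module.Finite K(p, k) N]

/-- The first slope part splits off. -/
theorem exists_split [Nontrivial N] (hτ : Good τ) (hF : Function.Bijective F) :
    ∃ (μ : ℚ) (P Q : Submodule K(p, k) N), IsCompl P Q ∧ IsoPart F μ P ∧ P ≠ ⊥ ∧
      ∀ x ∈ Q, F x ∈ Q := by
  obtain ⟨l, hl⟩ := exists_isFirstSlope hτ hF (N := N)
  obtain ⟨r, s, hs, -, rfl⟩ := exists_int_eq_mul hτ hF hl
  obtain ⟨M, hM, hle⟩ := exists_lattice_of_div_le hτ hF hl r s hs le_rfl
  haveI := hM
  set G := (p : K(p, k)) ^ (-r) • Isoc.iter F s with hGdef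
  have hτs := hτ.pow s
  have hlat : ∀ (n : ℕ) (X : Submodule (WittVector p k) N),
      Isoc.latImg G n X = Isoc.pPow (-r * n) (Isoc.latImg F (s * n) X) :=
    fun n X => latImg_twist hτ (-r) s n X
  have hMG : Isoc.latImg G 1 M ≤ M := by
    rw [hlat, Nat.cast_one, mul_one, mul_one, pPow_le_iff, neg_neg]
    exact hle
  set U := unitPart G M
  set V := nilPart G hτs M
  have hUV : U ⊔ V = M := unitPart_sup_nilPart hτs M hMG hM.fg
  have hU1 : Isoc.latImg G 1 U = U := latImg_unitPart hτs M hMG
  -- commutation of F with the iterates of G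
  have hcomm : ∀ (n : ℕ) (i : ℤ) (X : Submodule (WittVector p k) N),
      Isoc.latImg G n (Isoc.pPow i (Isoc.latImg F 1 X))
        = Isoc.pPow i (Isoc.latImg F 1 (Isoc.latImg G n X)) := fun n i X => by
    rw [hlat, hlat, latImg_pPow hτ, latImg_pPow hτ, latImg_latImg hτ, latImg_latImg hτ, pPow_pPow,
      pPow_pPow, add_comm (s * n) 1, add_comm i]
  obtain ⟨i, hi⟩ : ∃ i : ℤ, Isoc.pPow i (Isoc.latImg F 1 M) ≤ M := by
    haveI := isLattice_latImg hτ hF 1 M
    obtain ⟨j, hj⟩ := exists_le_pPow (p := p) (k := k) (Isoc.latImg F 1 M) M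
    exact ⟨-j, pPow_le_iff.2 (by rw [neg_neg]; exact hj)⟩
  have hUst : ∀ x ∈ Submodule.span K(p, k) (U : Set N), F x ∈ Submodule.span K(p, k) (U : Set N) := by
    intro x hx
    have hle' : Isoc.pPow i (Isoc.latImg F 1 U) ≤ U := by
      refine le_unitPart M ((pPow_mono i (latImg_mono 1 (unitPart_le M))).trans hi) fun n => le_of_eq ?_
      rw [hcomm]
      congr 2
      induction n with
      | zero => rw [latImg_zero]
      | succ n ih => rw [← latImg_latImg hτs, hU1, ← ih]
    have h1 := apply_mem_span_latImg (F := F) hx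
    rw [← span_pPow_eq i] at h1
    exact Submodule.span_mono hle' h1
  have hVst : ∀ x ∈ Submodule.span K(p, k) (V : Set N), F x ∈ Submodule.span K(p, k) (V : Set N) := by
    intro x hx
    have hle' : Isoc.pPow i (Isoc.latImg F 1 V) ≤ V := by
      refine le_nilPart hτs M ((pPow_mono i (latImg_mono 1 (nilPart_le hτs M))).trans hi) fun j => ?_
      obtain ⟨n, hn⟩ := nilPart_small hτs M hMG hM.fg j
      refine ⟨n, ?_⟩
      rw [hcomm]
      refine (pPow_mono i (latImg_mono 1 hn)).trans ?_
      rw [latImg_pPow hτ, pPow_pPow, add_comm, ← pPow_pPow]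
      exact pPow_mono _ hi
    have h1 := apply_mem_span_latImg (F := F) hx
    rw [← span_pPow_eq i] at h1
    exact Submodule.span_mono hle' h1
  have hcompl : IsCompl (Submodule.span K(p, k) (U : Set N)) (Submodule.span K(p, k) (V : Set N)) := by
    refine ⟨Submodule.disjoint_def.2 fun x hxU hxV => ?_, codisjoint_iff.2 (eq_top_iff.2 ?_)⟩
    · obtain ⟨a, ha⟩ := exists_natPow_smul_mem hxU
      obtain ⟨b, hb⟩ := exists_natPow_smul_mem hxV
      have := eq_zero_of_mem_both hτs M hMG (ha (max a b) (le_max_left _ _)) (hb (max a b) (le_max_right _ _))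
      exact (smul_eq_zero.1 this).resolve_left (pow_ne_zero _ p_ne_zero)
    · rw [← hM.span_eq_top, Submodule.span_le]
      intro x hx
      rw [SetLike.mem_coe, ← hUV] at hx
      obtain ⟨a, ha, b, hb, rfl⟩ := Submodule.mem_sup.1 hx
      exact Submodule.add_mem_sup (Submodule.subset_span ha) (Submodule.subset_span hb)
  refine ⟨(r : ℚ) / s, _, _, hcompl, ⟨hUst, U, r, s, ?_, rfl, hs, rfl, ?_⟩, ?_, hVst⟩
  · haveI : Module.Finite (WittVector p k) M := Module.Finite.iff_fg.2 hM.fg
    haveI : IsNoetherian (WittVector p k) M := isNoetherian_of_isNoetherianRing_of_finite _ _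
    exact Submodule.FG.of_le_of_isNoetherian (unitPart_le M)
  · have h := hU1
    rw [hlat, Nat.cast_one, mul_one, mul_one] at h
    conv_rhs => rw [← h, pPow_pPow, add_neg_cancel, pPow_zero]
  · intro hbot
    have hU0 : U = ⊥ := (Submodule.eq_bot_iff _).2 fun x hx =>
      (Submodule.mem_bot K(p, k)).1 (hbot ▸ Submodule.subset_span hx)
    obtain ⟨n, hn⟩ := nilPart_small hτs M hMG hM.fg 1
    rw [show nilPart G hτs M = M by conv_rhs => rw [← hUV, hU0, bot_sup_eq]] at hn
    rcases Nat.eq_zero_or_pos n with rfl | hnpos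
    · rw [latImg_zero, Nat.cast_one] at hn
      exact not_le_pPow_one M hn
    · rw [hlat, Nat.cast_one, pPow_le_iff, pPow_pPow] at hn
      have := div_le_of_latImg_le hτ hF hl (Nat.mul_pos hs hnpos) hn
      have hsn : (0 : ℝ) < (s : ℝ) * n := by
        exact mul_pos (by exact_mod_cast hs) (by exact_mod_cast hnpos)
      push_cast at this
      rw [div_le_div_iff₀ hsn (by exact_mod_cast hs)] at this
      nlinarith [show (1 : ℝ) ≤ (s : ℝ) by exact_mod_cast hs]

theorem IsoPart.map_subtype (hτ : Good τ) {Q : Submodule K(p, k) N} (hQ : ∀ x ∈ Q, F x ∈ Q) {μ : ℚ}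
    {P : Submodule K(p, k) Q} (h : IsoPart (F.restrict hQ) μ P) : IsoPart F μ (P.map Q.subtype) :=
  h.map hτ Q.subtype fun _ => rfl

end Groth.Agent.Isoc53

namespace Groth.Agent.Isoc53

variable {p : ℕ} [Fact p.Prime] {k : Type u} [Field k] [CharP k p] [PerfectRing k p]
variable {τ : K(p, k) →+* K(p, k)}

theorem iSup_slopePart_eq_top_aux (hτ : Good τ) (n : ℕ) :
    ∀ (N : Type v) [AddCommGroup N] [Module (WittVector p k) N] [Module K(p, k) N]
      [IsScalarTower (WittVector p k) K(p, k) N] [Module.Finite K(p, k) N] (F : N →ₛₗ[τ] N),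
      Function.Bijective F → Module.finrank K(p, k) N = n →
        ⨆ μ : ℚ, Isoc.slopePart F μ = ⊤ := by
  induction n using Nat.strong_induction_on with
  | _ n ih =>
    intro N _ _ _ _ _ F hF hn
    rcases subsingleton_or_nontrivial N with h | h
    · exact Subsingleton.elim _ _
    obtain ⟨μ, P, Q, hPQ, hP, hP0, hQ⟩ := exists_split (N := N) hτ hF
    have hlt : Module.finrank K(p, k) Q < n := by
      have h1 := Submodule.finrank_add_eq_of_isCompl hPQ
      have h2 : Module.finrank K(p, k) P ≠ 0 := fun h0 => hP0 (Submodule.finrank_eq_zero.1 h0)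
      omega
    have hQtop := ih _ hlt Q (F.restrict hQ) (restrict_bijective hτ hF hQ) rfl
    rw [eq_top_iff, ← hPQ.sup_eq_top]
    refine sup_le (le_iSup_of_le μ (hP.le_slopePart hτ)) ?_
    calc Q = (⊤ : Submodule K(p, k) Q).map Q.subtype := by rw [Submodule.map_top, Submodule.range_subtype]
      _ = ⨆ ν : ℚ, (Isoc.slopePart (F.restrict hQ) ν).map Q.subtype := by
        rw [← Submodule.map_iSup, hQtop]
      _ ≤ ⨆ ν : ℚ, Isoc.slopePart F ν := iSup_mono fun ν =>
        ((isoPart_slopePart (F := F.restrict hQ) hτ ν).map_subtype hτ hQ).le_slopePart hτ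

theorem isInternal_slopePart {N : Type v} [AddCommGroup N] [Module (WittVector p k) N]
    [Module K(p, k) N] [IsScalarTower (WittVector p k) K(p, k) N] [Module.Finite K(p, k) N]
    {F : N →ₛₗ[τ] N} (hτ : Good τ) (hF : Function.Bijective F) :
    DirectSum.IsInternal (fun μ : ℚ => Isoc.slopePart F μ) :=
  DirectSum.isInternal_submodule_of_iSupIndep_of_iSup_eq_top (iSupIndep_slopePart hτ hF)
    (iSup_slopePart_eq_top_aux hτ _ N F hF rfl)

end Groth.Agent.Isoc53
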