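import Groth.Agent.Isoc53.Lattice
import Mathlib

/-!
The order of the determinant of a semilinear endomorphism.
-/

set_option autoImplicit false
set_option linter.unusedSectionVars false
universe u v w
open scoped Isocrystal Matrix

namespace Groth.Agent.Isoc53

variable {p : ℕ} [Fact p.Prime] {k : Type u} [Field k] [CharP k p]
variable {N : Type v} [AddCommGroup N] [Module K(p, k) N]
variable {τ : K(p, k) →+* K(p, k)} {F : N →ₛₗ[τ] N} {h : ℕ}

theorem toMatrix_comp (b : Module.Basis (Fin h) K(p, k) N) (v : Fin h → N) :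
    b.toMatrix (F ∘ v) = b.toMatrix (F ∘ b) * (b.toMatrix v).map τ := by
  ext i j
  rw [Matrix.mul_apply, Module.Basis.toMatrix_apply, Function.comp_apply]
  conv_lhs => rw [← b.sum_repr (v j), map_sum, map_sum, Finsupp.finsetSum_apply]
  refine Finset.sum_congr rfl fun l _ => ?_
  rw [LinearMap.map_smulₛₗ, map_smul, Finsupp.smul_apply, smul_eq_mul, Matrix.map_apply,
    Module.Basis.toMatrix_apply, Module.Basis.toMatrix_apply, Function.comp_apply, mul_comm]

theorem detCoeff_eq (b : Module.Basis (Fin h) K(p, k) N) :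
    Isoc.detCoeff b F = (b.toMatrix (F ∘ b)).det := rfl

theorem detCoeff_ne_zero (b : Module.Basis (Fin h) K(p, k) N) (hF : Function.Bijective F) :
    Isoc.detCoeff b F ≠ 0 := by
  choose v hv using fun i => hF.2 (b i)
  have := congrArg Matrix.det (toMatrix_comp (F := F) b v)
  rw [show F ∘ v = b from funext hv, Module.Basis.toMatrix_self, Matrix.det_one, Matrix.det_mul] at this
  intro h0
  rw [← detCoeff_eq, h0, zero_mul] at this
  exact one_ne_zero this

variable [PerfectRing k p]

theorem exists_isOrdP_detCoeff (b : Module.Basis (Fin h) K(p, k) N) (hF : Function.Bijective F) :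
    ∃ d, Isoc.IsOrdP (Isoc.detCoeff b F) d := exists_isOrdP (detCoeff_ne_zero b hF)

theorem det_map_good (hτ : Good τ) (C : Matrix (Fin h) (Fin h) K(p, k)) {c : ℤ}
    (hc : Isoc.IsOrdP C.det c) : Isoc.IsOrdP (C.map τ).det c := by
  rw [← RingHom.mapMatrix_apply, ← RingHom.map_det]
  exact hτ.isOrdP hc

/-- The order of the determinant does not depend on the basis. -/
theorem isOrdP_detCoeff_congr (hτ : Good τ) {h' : ℕ} (b : Module.Basis (Fin h) K(p, k) N)
    (b' : Module.Basis (Fin h') K(p, k) N) {d : ℤ} (hd : Isoc.IsOrdP (Isoc.detCoeff b F) d) :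
    Isoc.IsOrdP (Isoc.detCoeff b' F) d := by
  obtain rfl : h = h' := by
    simpa using Fintype.card_congr (b.indexEquiv b')
  have hinv : (b.toMatrix b') * (b'.toMatrix b) = 1 := by
    rw [b.toMatrix_mul_toMatrix b', Module.Basis.toMatrix_self]
  have hne : (b.toMatrix b').det ≠ 0 := fun h0 => by
    have := congrArg Matrix.det hinv
    rw [Matrix.det_mul, h0, zero_mul, Matrix.det_one] at this
    exact zero_ne_one this
  obtain ⟨c, hc⟩ := exists_isOrdP hne
  have hmul : b.toMatrix b' * b'.toMatrix (F ∘ b') = b.toMatrix (F ∘ b) * (b.toMatrix b').map τ := by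
    rw [b.toMatrix_mul_toMatrix b', ← toMatrix_comp]
  have hdet := congrArg Matrix.det hmul
  rw [Matrix.det_mul, Matrix.det_mul, ← detCoeff_eq, ← detCoeff_eq] at hdet
  have hprod : Isoc.IsOrdP ((b.toMatrix b').det⁻¹ *
      (Isoc.detCoeff b F * ((b.toMatrix b').map τ).det)) (-c + (d + c)) :=
    IsOrdP.mul (IsOrdP.inv hc) (IsOrdP.mul hd (det_map_good hτ _ hc))
  rw [← hdet, ← mul_assoc, inv_mul_cancel₀ hne, one_mul, show -c + (d + c) = d by ring] at hprod
  exact hprod

theorem isOrdP_det_iterate (hτ : Good τ) (b : Module.Basis (Fin h) K(p, k) N) {d : ℤ}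
    (hd : Isoc.IsOrdP (Isoc.detCoeff b F) d) (n : ℕ) :
    Isoc.IsOrdP (b.toMatrix ((⇑F)^[n] ∘ b)).det ((n : ℤ) * d) := by
  induction n with
  | zero =>
    rw [Function.iterate_zero, Function.id_comp, Module.Basis.toMatrix_self, Matrix.det_one,
      Nat.cast_zero, zero_mul]
    exact isOrdP_one
  | succ n ih =>
    rw [Function.iterate_succ', Function.comp_assoc, toMatrix_comp, Matrix.det_mul, ← detCoeff_eq,
      show ((n + 1 : ℕ) : ℤ) * d = d + (n : ℤ) * d by push_cast; ring]
    exact IsOrdP.mul hd (det_map_good hτ _ ih)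

section Lattice

variable [Module (WittVector p k) N] [IsScalarTower (WittVector p k) K(p, k) N]

theorem det_zpow_smul (r : ℤ) (A : Matrix (Fin h) (Fin h) K(p, k)) :
    (((p : K(p, k)) ^ r) • A).det = (p : K(p, k)) ^ (r * h) * A.det := by
  rw [Matrix.det_smul, Fintype.card_fin, ← zpow_natCast, ← zpow_mul]

/-- If `F^s(M) ⊆ p^r M` then `r h ≤ s d`, with equality when `F^s(M) = p^r M`; conversely. -/
theorem order_le (hτ : Good τ) (b : Module.Basis (Fin h) K(p, k) N) {d : ℤ}
    (hd : Isoc.IsOrdP (Isoc.detCoeff b F) d) (M : Submodule (WittVector p k) N) [M.IsLattice K(p, k)]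
    {s : ℕ} {r : ℤ} (hle : Isoc.latImg F s M ≤ Isoc.pPow r M) :
    r * h ≤ (s : ℤ) * d ∧
      (Isoc.latImg F s M = Isoc.pPow r M ↔ r * h = (s : ℤ) * d) := by
  haveI := Module.Finite.of_basis b
  obtain ⟨h', c, hM⟩ := exists_basis (p := p) (k := k) M
  obtain rfl : h = h' := by simpa using Fintype.card_congr (b.indexEquiv c)
  have hdc := isOrdP_detCoeff_congr hτ b c hd
  have hA := isOrdP_det_iterate hτ c hdc s
  set A := c.toMatrix ((⇑F)^[s] ∘ c)
  have hint : ∀ i j, IsInt ((p : K(p, k)) ^ (-r) * A i j) := by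
    intro i j
    have hmem : c j ∈ M := hM ▸ Submodule.subset_span ⟨j, rfl⟩
    have := hle (image_mem_latImg hmem)
    rw [mem_pPow, hM, mem_span_basis_iff] at this
    have hi := this i
    rwa [map_smul, Finsupp.smul_apply, smul_eq_mul] at hi
  choose B hB using hint
  have hBA : (Matrix.of B).map (ι p k) = ((p : K(p, k)) ^ (-r)) • A := by
    ext i j; exact hB i j
  have hdetB : ι p k (Matrix.of B).det = (p : K(p, k)) ^ (-r * h) * A.det := by
    rw [RingHom.map_det, RingHom.mapMatrix_apply, hBA, det_zpow_smul]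
  have hordB : Isoc.IsOrdP (ι p k (Matrix.of B).det) (-r * h + s * d) := by
    rw [hdetB]; exact IsOrdP.mul (isOrdP_zpow _) hA
  have hnn := (isInt_iff hordB).1 ⟨_, rfl⟩
  refine ⟨by linarith, fun heq => ?_, fun heq => ?_⟩
  · have hspan : ∀ j, ∃ f : Fin h → WittVector p k,
        c j = ∑ i, f i • ((p : K(p, k)) ^ (-r)) • (⇑F)^[s] (c i) := by
      intro j
      have hmem : (p : K(p, k)) ^ r • c j ∈ Isoc.latImg F s M := by
        rw [heq, mem_pPow, smul_smul, ← zpow_add₀ p_ne_zero, neg_add_cancel, zpow_zero, one_smul, hM]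
        exact Submodule.subset_span ⟨j, rfl⟩
      rw [hM, latImg_span hτ, ← Set.range_comp, Submodule.mem_span_range_iff_exists_fun] at hmem
      obtain ⟨f, hf⟩ := hmem
      refine ⟨f, ?_⟩
      simp only [Function.comp_apply] at hf
      simp only [smul_comm (_ : WittVector p k) ((p : K(p, k)) ^ (-r)), ← Finset.smul_sum, hf,
        smul_smul, ← zpow_add₀ (p_ne_zero (p := p) (k := k)), neg_add_cancel, zpow_zero, one_smul]
    choose f hf using hspan
    have hone : Matrix.of B * Matrix.of (fun i j => f j i) = 1 := by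
      apply Matrix.map_injective (ι_injective (p := p) (k := k))
      beta_reduce
      rw [← RingHom.mapMatrix_apply, map_mul, RingHom.mapMatrix_apply, RingHom.mapMatrix_apply, hBA,
        Matrix.map_one _ (map_zero _) (map_one _), ← c.toMatrix_self]
      ext i j
      rw [Matrix.mul_apply, Module.Basis.toMatrix_apply, hf j, map_sum, Finsupp.finsetSum_apply]
      refine Finset.sum_congr rfl fun l _ => ?_
      rw [← ι_smul (f j l), map_smul, map_smul, Finsupp.smul_apply, Finsupp.smul_apply, smul_eq_mul,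
        smul_eq_mul, Matrix.map_apply, Matrix.of_apply, Matrix.smul_apply, smul_eq_mul]
      exact mul_comm _ _
    have hu : IsUnit (Matrix.of B).det := IsUnit.of_mul_eq_one _ (by
      rw [← Matrix.det_mul, hone, Matrix.det_one])
    have := IsOrdP.unique hordB (isOrdP_of_isUnit hu)
    linarith
  · refine le_antisymm hle ?_
    rw [show -r * (h : ℤ) + s * d = 0 by linarith] at hordB
    obtain ⟨u, hu⟩ := hordB
    rw [zpow_zero, one_mul] at hu
    have hdu : IsUnit (Matrix.of B).det := ι_injective hu ▸ u.isUnit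
    rw [pPow_le_iff]
    conv_lhs => rw [hM]
    rw [Submodule.span_le]
    rintro _ ⟨j, rfl⟩
    have hcj : c j = ∑ i, ((Matrix.of B)⁻¹ i j) • ((p : K(p, k)) ^ (-r)) • (⇑F)^[s] (c i) := by
      apply c.repr.injective
      ext l
      have hmul : (Matrix.of B).map (ι p k) * ((Matrix.of B)⁻¹).map (ι p k) = 1 := by
        rw [← RingHom.mapMatrix_apply, ← RingHom.mapMatrix_apply, ← map_mul,
          Matrix.mul_nonsing_inv _ hdu, map_one]
      rw [hBA] at hmul
      have := congrFun (congrFun hmul l) j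
      rw [Matrix.mul_apply, Matrix.one_apply] at this
      rw [c.repr_self_apply, map_sum, Finsupp.finsetSum_apply]
      refine Eq.trans ?_ (Eq.trans this.symm (Finset.sum_congr rfl fun i _ => ?_))
      · exact if_congr eq_comm rfl rfl
      · rw [← ι_smul ((Matrix.of B)⁻¹ i j), map_smul, map_smul, Finsupp.smul_apply, Finsupp.smul_apply,
          smul_eq_mul, smul_eq_mul, Matrix.smul_apply, Matrix.map_apply, smul_eq_mul]
        exact mul_comm _ _
    rw [SetLike.mem_coe, hcj]
    refine sum_mem fun i _ => Submodule.smul_mem _ _ (smul_mem_pPow_iff.2 ?_)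
    rw [sub_self, pPow_zero]
    exact image_mem_latImg (hM ▸ Submodule.subset_span ⟨i, rfl⟩)

end Lattice

end Groth.Agent.Isoc53
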