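import Groth.Agent.Isoc53.Semisimple
import Mathlib

/-!
Newton slopes over a finite field and the eigenvalues of the linearised Frobenius.
-/

set_option autoImplicit false
set_option linter.unusedSectionVars false
universe u v w
open scoped Isocrystal Matrix

namespace Groth.Agent.Isoc53

theorem charpoly_blockDiag' {R : Type w} [CommRing R] {t : ℕ} {n : Fin t → ℕ}
    (A : ∀ i, Matrix (Fin (n i)) (Fin (n i)) R) :
    (Matrix.blockDiagonal' A).charpoly = ∏ i, (A i).charpoly := by
  rw [Matrix.charpoly, show (Matrix.blockDiagonal' A).charmatrix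
    = Matrix.blockDiagonal' fun i => (A i).charmatrix from ?_, det_blockDiag']
  · rfl
  refine Matrix.ext fun ⟨i, a⟩ ⟨j, b⟩ => ?_
  rcases eq_or_ne i j with rfl | hij
  · rw [Matrix.blockDiagonal'_apply_eq]
    by_cases hab : a = b
    · subst hab; simp [Matrix.charmatrix_apply_eq, Matrix.blockDiagonal'_apply_eq]
    · rw [Matrix.charmatrix_apply_ne _ _ _ (by simpa using hab), Matrix.charmatrix_apply_ne _ _ _ hab,
        Matrix.blockDiagonal'_apply_eq]
  · rw [Matrix.blockDiagonal'_apply_ne _ _ _ hij, Matrix.charmatrix_apply_ne _ _ _ (by simp [hij]),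
      Matrix.blockDiagonal'_apply_ne _ _ _ hij, map_zero, neg_zero]

theorem charpoly_internal {K : Type u} [Field K] {M : Type v} [AddCommGroup M] [Module K M]
    [Module.Finite K M] {t : ℕ} {A : Fin t → Submodule K M} (hA : DirectSum.IsInternal A)
    (f : M →ₗ[K] M) (hf : ∀ i, ∀ x ∈ A i, f x ∈ A i) :
    f.charpoly = ∏ i, (LinearMap.restrict f (hf i)).charpoly := by
  classical
  rw [← f.charpoly_toMatrix (hA.collectedBasis fun i => Module.finBasis K (A i)),
    LinearMap.toMatrix_directSum_collectedBasis_eq_blockDiagonal' hA hA _ _ (fun i x hx => hf i x hx),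
    charpoly_blockDiag']
  exact Finset.prod_congr rfl fun i _ => LinearMap.charpoly_toMatrix _ _

section Eigen

variable {W : Type u} [CommRing W] {Ω : Type w} [Field Ω] [Algebra W Ω] {n : ℕ}

theorem isIntegral_of_eigen (B : Matrix (Fin n) (Fin n) W) {z : Ω} {v : Fin n → Ω} (hv : v ≠ 0)
    (h : B.map (algebraMap W Ω) *ᵥ v = z • v) : IsIntegral W z := by
  refine ⟨B.charpoly, B.charpoly_monic, ?_⟩
  rw [← Polynomial.eval_map, ← Matrix.charpoly_map, Matrix.eval_charpoly,
    ← Matrix.exists_mulVec_eq_zero_iff]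
  refine ⟨v, hv, ?_⟩
  rw [Matrix.sub_mulVec, h, sub_eq_zero]
  simp [Matrix.scalar_apply, ← Matrix.smul_one_eq_diagonal, Matrix.smul_mulVec]

end Eigen

variable {p : ℕ} [Fact p.Prime] {k : Type u} [Field k] [CharP k p] [PerfectRing k p]
variable {τ : K(p, k) →+* K(p, k)}
variable {N : Type v} [AddCommGroup N] [Module (WittVector p k) N] [Module K(p, k) N]
  [IsScalarTower (WittVector p k) K(p, k) N] [Module.Finite K(p, k) N]
variable (Ω : Type w) [Field Ω] [Algebra (WittVector p k) Ω] [Algebra K(p, k) Ω]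
  [IsScalarTower (WittVector p k) K(p, k) Ω]

/-- `α` has order `μ * m`. -/
def HasSlope (m : ℕ) (μ : ℚ) (α : Ω) : Prop :=
  IsIntegral (WittVector p k) (α ^ μ.den * (algebraMap K(p, k) Ω (p : K(p, k))) ^ (-(μ.num * (m : ℤ))))
    ∧ IsIntegral (WittVector p k)
      (α ^ μ.den * (algebraMap K(p, k) Ω (p : K(p, k))) ^ (-(μ.num * (m : ℤ))))⁻¹

theorem hasSlope_of_root {F : N →ₛₗ[τ] N} (hτ : Good τ) (hF : Function.Bijective F) {μ : ℚ}
    (hμ : Isoc.IsIsoclinic F μ) (m : ℕ) (π : N →ₗ[K(p, k)] N) (hπ : ∀ x, π x = (⇑F)^[m] x)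
    {α : Ω} (hα : α ∈ (π.charpoly.map (algebraMap K(p, k) Ω)).roots) :
    HasSlope (p := p) (k := k) Ω m μ α := by
  classical
  rcases subsingleton_or_nontrivial N with hs | hs
  · have : π.charpoly = 1 := by
      refine (π.charpoly_monic.natDegree_eq_zero).1 ?_
      rw [LinearMap.charpoly_natDegree]
      exact Module.finrank_zero_of_subsingleton
    rw [this, Polynomial.map_one, Polynomial.roots_one] at hα
    exact absurd hα (Multiset.notMem_zero α)
  obtain ⟨M, hM, hFM⟩ := exists_lattice_reduced hτ hF hμ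
  haveI := hM
  obtain ⟨n, b, hMb⟩ := exists_basis (p := p) (k := k) M
  set c : K(p, k) := (p : K(p, k)) ^ (-(μ.num * (m : ℤ))) with hc
  set β : N →ₗ[K(p, k)] N := c • (π ^ μ.den) with hβdef
  have hπpow : ∀ (j : ℕ) (x : N), (π ^ j) x = (⇑F)^[m * j] x := by
    intro j
    induction j with
    | zero => intro x; simp
    | succ j ih =>
      intro x
      rw [pow_succ', Module.End.mul_apply, hπ, ih, ← Function.iterate_add_apply]
      ring_nf
  have hβM : ∀ x, x ∈ M → β x ∈ M ∧ ∃ y ∈ M, β y = x := by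
    have heq : Isoc.latImg F (m * μ.den) M = Isoc.pPow ((m : ℤ) * μ.num) M :=
      latImg_mul_eq hτ M μ.num μ.den hFM m
    intro x hx
    constructor
    · have h1 : (⇑F)^[m * μ.den] x ∈ Isoc.pPow ((m : ℤ) * μ.num) M := heq ▸ image_mem_latImg hx
      rw [mem_pPow, mul_comm (m : ℤ)] at h1
      rw [hβdef, LinearMap.smul_apply, hπpow, hc]
      exact h1
    · have h1 : (p : K(p, k)) ^ ((m : ℤ) * μ.num) • x ∈ Isoc.latImg F (m * μ.den) M := by
        rw [heq, mem_pPow, smul_smul, ← zpow_add₀ p_ne_zero, neg_add_cancel, zpow_zero, one_smul]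
        exact hx
      obtain ⟨y, hy, hyx⟩ := (mem_latImg hτ).1 h1
      refine ⟨y, hy, ?_⟩
      rw [hβdef, LinearMap.smul_apply, hπpow, hyx, hc, smul_smul, ← zpow_add₀ p_ne_zero,
        mul_comm (μ.num), neg_add_cancel, zpow_zero, one_smul]
  have hbM : ∀ j, b j ∈ M := fun j => hMb ▸ Submodule.subset_span ⟨j, rfl⟩
  choose y hy hβy using fun j => (hβM (b j) (hbM j)).2
  have hB : ∀ i j, IsInt (b.repr (β (b j)) i) := fun i j => by
    have h1 := (hβM _ (hbM j)).1
    rw [hMb, mem_span_basis_iff] at h1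
    exact h1 i
  have hB' : ∀ i j, IsInt (b.repr (y j) i) := fun i j => by
    have h1 := hy j
    rw [hMb, mem_span_basis_iff] at h1
    exact h1 i
  choose B hBe using hB
  choose B' hB'e using hB'
  set P := LinearMap.toMatrix b b π with hPdef
  have hBP : (Matrix.of B).map (ι p k) = c • P ^ μ.den := by
    rw [hPdef, LinearMap.toMatrix_pow, ← map_smul, ← hβdef]
    ext i j
    rw [Matrix.map_apply, Matrix.of_apply, hBe, LinearMap.toMatrix_apply]
  have hinv : (Matrix.of B).map (ι p k) * (Matrix.of B').map (ι p k) = 1 := by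
    rw [show (Matrix.of B').map (ι p k) = b.toMatrix y from Matrix.ext fun i j => by
        rw [Matrix.map_apply, Matrix.of_apply, hB'e]; rfl,
      show (Matrix.of B).map (ι p k) = LinearMap.toMatrix b b β from Matrix.ext fun i j => by
        rw [Matrix.map_apply, Matrix.of_apply, hBe, LinearMap.toMatrix_apply]]
    ext i j
    rw [Matrix.mul_apply]
    have h1 : b.repr (β (y j)) i = (1 : Matrix (Fin n) (Fin n) K(p, k)) i j := by
      rw [hβy, b.repr_self, Finsupp.single_apply, Matrix.one_apply]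
      simp only [eq_comm]
    rw [← h1]
    have h2 := congrFun (LinearMap.toMatrix_mulVec_repr b b β (y j)) i
    rw [← h2]
    rfl
  set f : K(p, k) →+* Ω := algebraMap K(p, k) Ω with hfdef
  obtain ⟨v, hv0, hv⟩ : ∃ v : Fin n → Ω, v ≠ 0 ∧ P.map f *ᵥ v = α • v := by
    have h1 := (Polynomial.mem_roots'.1 hα).2
    rw [← π.charpoly_toMatrix b, ← Matrix.charpoly_map, Polynomial.IsRoot, Matrix.eval_charpoly,
      ← Matrix.exists_mulVec_eq_zero_iff] at h1
    obtain ⟨v, hv0, hv⟩ := h1
    refine ⟨v, hv0, ?_⟩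
    rw [Matrix.sub_mulVec, sub_eq_zero] at hv
    rw [← hv]
    simp [Matrix.scalar_apply, ← Matrix.smul_one_eq_diagonal, Matrix.smul_mulVec]
  have hvpow : ∀ j : ℕ, (P ^ j).map f *ᵥ v = α ^ j • v := by
    intro j
    induction j with
    | zero => rw [pow_zero, pow_zero, one_smul, Matrix.map_one f (map_zero _) (map_one _), Matrix.one_mulVec]
    | succ j ih =>
      rw [pow_succ', Matrix.map_mul, ← Matrix.mulVec_mulVec, ih, Matrix.mulVec_smul, hv, smul_smul,
        ← pow_succ]
  have hmap : ∀ C : Matrix (Fin n) (Fin n) (WittVector p k),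
      C.map (algebraMap (WittVector p k) Ω) = (C.map (ι p k)).map f := fun C =>
    Matrix.ext fun i j => IsScalarTower.algebraMap_apply (WittVector p k) K(p, k) Ω (C i j)
  set z : Ω := α ^ μ.den * f (p : K(p, k)) ^ (-(μ.num * (m : ℤ))) with hz
  have hBz : (Matrix.of B).map (algebraMap (WittVector p k) Ω) *ᵥ v = z • v := by
    rw [hmap, hBP, Matrix.map_smul' _ _ _ (map_mul f), Matrix.smul_mulVec, hvpow, smul_smul, hz, hc,
      map_zpow₀, mul_comm]
  have hB'z : (Matrix.of B').map (algebraMap (WittVector p k) Ω) *ᵥ (z • v) = v := by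
    rw [← hBz, Matrix.mulVec_mulVec, hmap, hmap, ← Matrix.map_mul,
      mul_eq_one_comm.1 hinv, Matrix.map_one f (map_zero _) (map_one _), Matrix.one_mulVec]
  have hz0 : z ≠ 0 := by
    intro h0
    rw [h0, zero_smul, Matrix.mulVec_zero] at hB'z
    exact hv0 hB'z.symm
  refine ⟨isIntegral_of_eigen _ hv0 hBz, isIntegral_of_eigen (Matrix.of B') hv0 ?_⟩
  rw [Matrix.mulVec_smul] at hB'z
  conv_rhs => rw [← hB'z, smul_smul, inv_mul_cancel₀ hz0, one_smul]

theorem isInt_of_isIntegral {x : K(p, k)} (hx : IsIntegral (WittVector p k) (algebraMap K(p, k) Ω x)) :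
    IsInt x := by
  have h1 : IsIntegral (WittVector p k) x :=
    (isIntegral_algebraMap_iff (algebraMap K(p, k) Ω).injective).1 hx
  obtain ⟨w, hw⟩ := IsIntegrallyClosed.algebraMap_eq_of_integral h1
  exact ⟨w, hw⟩

theorem eq_of_hasSlope {m : ℕ} (hm : 0 < m) {μ ν : ℚ} {α : Ω}
    (h₁ : HasSlope (p := p) (k := k) Ω m μ α) (h₂ : HasSlope (p := p) (k := k) Ω m ν α)
    (hα : α ≠ 0) : μ = ν := by
  set P : Ω := algebraMap K(p, k) Ω (p : K(p, k)) with hP
  have hP0 : P ≠ 0 := by
    rw [hP, Ne, map_eq_zero_iff _ (algebraMap K(p, k) Ω).injective]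
    exact p_ne_zero
  set x := α ^ μ.den * P ^ (-(μ.num * (m : ℤ)))
  set y := α ^ ν.den * P ^ (-(ν.num * (m : ℤ)))
  have e : x ^ ν.den * (y⁻¹) ^ μ.den
      = P ^ ((ν.num * μ.den - μ.num * ν.den) * (m : ℤ)) := by
    simp only [x, y]
    rw [inv_pow, mul_pow, mul_pow, ← pow_mul, ← pow_mul, mul_inv, ← zpow_natCast (P ^ _),
      ← zpow_natCast (P ^ _) μ.den, ← zpow_mul, ← zpow_mul, ← zpow_neg,
      show μ.den * ν.den = ν.den * μ.den from mul_comm _ _,
      mul_mul_mul_comm, mul_inv_cancel₀ (pow_ne_zero _ hα), one_mul, ← zpow_add₀ hP0]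
    congr 1
    ring
  have hi1 : IsIntegral (WittVector p k) (P ^ ((ν.num * μ.den - μ.num * ν.den) * (m : ℤ))) := by
    rw [← e]; exact (h₁.1.pow _).mul (h₂.2.pow _)
  have hi2 : IsIntegral (WittVector p k) (P ^ ((ν.num * μ.den - μ.num * ν.den) * (m : ℤ)))⁻¹ := by
    rw [← e, mul_inv, ← inv_pow, ← inv_pow, inv_inv]; exact (h₁.2.pow _).mul (h₂.1.pow _)
  rw [← zpow_neg] at hi2
  rw [hP, ← map_zpow₀] at hi1 hi2
  have n1 := (isInt_iff (isOrdP_zpow _)).1 (isInt_of_isIntegral Ω hi1)
  have n2 := (isInt_iff (isOrdP_zpow _)).1 (isInt_of_isIntegral Ω hi2)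
  have h0 : (ν.num * μ.den - μ.num * ν.den) * (m : ℤ) = 0 := by omega
  have h1 := sub_eq_zero.1 ((mul_eq_zero.1 h0).resolve_right (by exact_mod_cast hm.ne'))
  exact (Rat.eq_iff_mul_eq_mul).2 h1.symm

theorem newtonMult_eq_countP [IsAlgClosed Ω] {F : N →ₛₗ[τ] N} (hτ : Good τ)
    (hF : Function.Bijective F) {m : ℕ} (hm : 0 < m) (π : N →ₗ[K(p, k)] N)
    (hπ : ∀ x, π x = (⇑F)^[m] x) (μ : ℚ) [DecidablePred (HasSlope (p := p) (k := k) Ω m μ)] :
    Isoc.newtonMult F μ =
      Multiset.countP (HasSlope (p := p) (k := k) Ω m μ)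
        ((π.charpoly.map (algebraMap K(p, k) Ω)).roots) := by
  classical
  have hint := isInternal_slopePart (N := N) hτ hF
  have hfin : {ν : ℚ | Isoc.slopePart F ν ≠ ⊥}.Finite :=
    WellFoundedGT.finite_ne_bot_of_iSupIndep hint.submodule_iSupIndep
  let e : Fin hfin.toFinset.card ≃ hfin.toFinset := hfin.toFinset.equivFin.symm
  let A : Fin hfin.toFinset.card → Submodule K(p, k) N := fun i => Isoc.slopePart F (e i : ℚ)
  have hA : DirectSum.IsInternal A := by
    refine DirectSum.isInternal_submodule_of_iSupIndep_of_iSup_eq_top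
      (hint.submodule_iSupIndep.comp (f := fun i => (e i : ℚ))
        (Subtype.val_injective.comp e.injective)) ?_
    rw [eq_top_iff, ← hint.submodule_iSup_eq_top]
    refine iSup_le fun ν => ?_
    by_cases hν : Isoc.slopePart F ν = ⊥
    · rw [hν]; exact bot_le
    · refine le_iSup_of_le (e.symm ⟨ν, hfin.mem_toFinset.2 hν⟩) ?_
      simp [A]
  have hst : ∀ i, ∀ x ∈ A i, F x ∈ A i := fun i => slopePart_stable hτ _
  have hit : ∀ (i) (n : ℕ), ∀ x ∈ A i, (⇑F)^[n] x ∈ A i := fun i n => by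
    induction n with
    | zero => exact fun x hx => hx
    | succ n ih => exact fun x hx => by rw [Function.iterate_succ_apply']; exact hst i _ (ih x hx)
  have hπst : ∀ i, ∀ x ∈ A i, π x ∈ A i := fun i x hx => by rw [hπ]; exact hit i m x hx
  let πr := fun i => LinearMap.restrict π (hπst i)
  have hroots : ∀ i, ∀ α ∈ ((πr i).charpoly.map (algebraMap K(p, k) Ω)).roots,
      HasSlope (p := p) (k := k) Ω m (e i : ℚ) α ∧ α ≠ 0 := by
    intro i α hα
    obtain ⟨_, hiso⟩ := (isoPart_iff hτ _ _).1 (isoPart_slopePart (F := F) hτ (e i : ℚ))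
    have hbij := restrict_bijective hτ hF (hst i)
    have hπr : ∀ x, πr i x = (⇑(F.restrict (hst i)))^[m] x := fun x => Subtype.ext (by
      rw [coe_iterate_restrict]; exact hπ x)
    refine ⟨hasSlope_of_root Ω hτ hbij hiso m (πr i) hπr hα, fun h0 => ?_⟩
    subst h0
    have h1 := (Polynomial.mem_roots'.1 hα).2
    rw [Polynomial.IsRoot, ← Polynomial.coeff_zero_eq_eval_zero, Polynomial.coeff_map,
      map_eq_zero_iff _ (algebraMap K(p, k) Ω).injective] at h1
    have hdet : LinearMap.det (πr i) = 0 := by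
      rw [LinearMap.det_eq_sign_charpoly_coeff, h1, mul_zero]
    obtain ⟨x, hx, hx0⟩ := (Submodule.ne_bot_iff _).1 (LinearMap.bot_lt_ker_of_det_eq_zero hdet).ne'
    rw [LinearMap.mem_ker, hπr] at hx
    exact hx0 ((hbij.1.iterate m) (hx.trans (iterate_map_zero' (F := F.restrict (hst i)) m).symm))
  rw [charpoly_internal hA π hπst, Polynomial.map_prod,
    Polynomial.roots_prod _ _ (Finset.prod_ne_zero_iff.2 fun i _ =>
      ((πr i).charpoly_monic.map _).ne_zero)]
  have hbind : ∀ S : Finset (Fin hfin.toFinset.card),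
      Multiset.countP (HasSlope (p := p) (k := k) Ω m μ)
        (S.val.bind fun i => ((πr i).charpoly.map (algebraMap K(p, k) Ω)).roots)
      = ∑ i ∈ S, (if (e i : ℚ) = μ then Module.finrank K(p, k) (A i) else 0) := by
    intro S
    induction S using Finset.induction_on with
    | empty => simp
    | insert i S hi ih =>
      rw [Finset.insert_val_of_notMem hi, Multiset.cons_bind, Multiset.countP_add, ih,
        Finset.sum_insert hi]
      congr 1
      by_cases hiμ : (e i : ℚ) = μ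
      · rw [if_pos hiμ, Multiset.countP_eq_card.2 (fun α hα => hiμ ▸ (hroots i α hα).1),
          IsAlgClosed.card_roots_eq_natDegree, Polynomial.natDegree_map,
          LinearMap.charpoly_natDegree]
      · rw [if_neg hiμ, Multiset.countP_eq_zero]
        exact fun α hα hs => hiμ (eq_of_hasSlope Ω hm (hroots i α hα).1 hs (hroots i α hα).2)
  rw [hbind Finset.univ]
  by_cases hμ : Isoc.slopePart F μ = ⊥
  · rw [Isoc.newtonMult, show Module.finrank K(p, k) (Isoc.slopePart F μ) = 0 by rw [hμ, finrank_bot]]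
    refine (Finset.sum_eq_zero fun i _ => if_neg fun hiμ => ?_).symm
    exact (hfin.mem_toFinset.1 (e i).2) (hiμ ▸ hμ)
  · rw [Finset.sum_eq_single (e.symm ⟨μ, hfin.mem_toFinset.2 hμ⟩)]
    · rw [if_pos (by simp)]
      exact congrArg (fun ν : ℚ => Module.finrank K(p, k) (Isoc.slopePart F ν))
        (show μ = ((e (e.symm ⟨μ, hfin.mem_toFinset.2 hμ⟩) : hfin.toFinset) : ℚ) by simp)
    · intro i _ hi
      exact if_neg fun hiμ => hi (by simp [← hiμ])
    · simp

end Groth.Agent.Isoc53
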