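import Groth.Agent.Isoc53.Indep
import Groth.Agent.AdicC27.Approx
import Groth.Agent.FrobAlg54.Fitting
import Mathlib

/-!
Fitting decomposition of a lattice under a semilinear endomorphism.
-/

set_option autoImplicit false
set_option linter.unusedSectionVars false
universe u v w
open scoped Isocrystal

namespace Groth.Agent.Isoc53

variable {p : ℕ} [Fact p.Prime] {k : Type u} [Field k] [CharP k p] [PerfectRing k p]
variable {τ : K(p, k) →+* K(p, k)}
variable {N : Type v} [AddCommGroup N] [Module (WittVector p k) N] [Module K(p, k) N]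
  [IsScalarTower (WittVector p k) K(p, k) N] {G : N →ₛₗ[τ] N}

theorem mem_pPow_natCast {j : ℕ} {M : Submodule (WittVector p k) N} {x : N} :
    x ∈ Isoc.pPow (j : ℤ) M ↔ ∃ z ∈ M, ((p : K(p, k)) ^ j) • z = x := by
  rw [mem_pPow]
  constructor
  · intro h
    refine ⟨_, h, ?_⟩
    rw [← zpow_natCast, smul_smul, ← zpow_add₀ p_ne_zero, add_neg_cancel, zpow_zero, one_smul]
  · rintro ⟨z, hz, rfl⟩
    rwa [← zpow_natCast, smul_smul, ← zpow_add₀ p_ne_zero, neg_add_cancel, zpow_zero, one_smul]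

theorem map_subtype_pow_smul_top (M : Submodule (WittVector p k) N) (j : ℕ) :
    ((Ideal.span {(p : WittVector p k)}) ^ j • (⊤ : Submodule (WittVector p k) M)).map M.subtype
      = Isoc.pPow (j : ℤ) M := by
  rw [Submodule.map_smul'', Submodule.map_top, Submodule.range_subtype, Ideal.span_singleton_pow,
    Submodule.ideal_span_singleton_smul]
  ext x
  rw [mem_pPow_natCast, Submodule.mem_smul_pointwise_iff_exists]
  simp only [natPow_smul_eq]

theorem pPow_natCast_le (j : ℕ) (M : Submodule (WittVector p k) N) : Isoc.pPow (j : ℤ) M ≤ M :=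
  (pPow_le_pPow (Int.natCast_nonneg j) M).trans (pPow_zero M).le

theorem exists_limit {M : Submodule (WittVector p k) N} (hM : M.FG) (x : ℕ → N) (hx : ∀ j, x j ∈ M)
    (h : ∀ j : ℕ, x (j + 1) - x j ∈ Isoc.pPow (j : ℤ) M) :
    ∃ l ∈ M, ∀ j : ℕ, x j - l ∈ Isoc.pPow (j : ℤ) M := by
  haveI : Module.Finite (WittVector p k) M := Module.Finite.iff_fg.2 hM
  haveI : IsAdicComplete (Ideal.span {(p : WittVector p k)}) M :=
    AdicC27.isAdicComplete_of_finite M
  let y : ℕ → M := fun j => ⟨x j, hx j⟩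
  have hy : ∀ j, y (j + 1) - y j ∈
      (Ideal.span {(p : WittVector p k)} ^ j • ⊤ : Submodule (WittVector p k) M) := fun j => by
    have h1 := h j
    rw [← map_subtype_pow_smul_top] at h1
    obtain ⟨z, hz, hzx⟩ := h1
    rwa [show y (j + 1) - y j = z from Subtype.ext hzx.symm]
  obtain ⟨l, hl⟩ := IsPrecomplete.prec (I := Ideal.span {(p : WittVector p k)}) inferInstance
    (fun {m n} hmn => AdicC27.smodEq_of_succ y hy hmn)
  refine ⟨l, l.2, fun j => ?_⟩
  rw [← map_subtype_pow_smul_top]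
  exact ⟨y j - l, SModEq.sub_mem.1 (hl j), rfl⟩

theorem exists_stabilize (M : Submodule (WittVector p k) N) (hM : M.FG) (j : ℕ)
    (D : ℕ → Submodule (WittVector p k) N) (hlo : ∀ n, Isoc.pPow (j : ℤ) M ≤ D n)
    (hhi : ∀ n, D n ≤ M) (hanti : Antitone D) : ∃ n₀, ∀ n, n₀ ≤ n → D n = D n₀ := by
  haveI : Module.Finite (WittVector p k) M := Module.Finite.iff_fg.2 hM
  set S : Submodule (WittVector p k) M := (Isoc.pPow (j : ℤ) M).comap M.subtype
  have htor : Module.IsTorsion (WittVector p k) (M ⧸ S) := by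
    intro z
    obtain ⟨⟨z, hz⟩, rfl⟩ := S.mkQ_surjective z
    refine ⟨⟨(p : WittVector p k) ^ j,
      mem_nonZeroDivisors_of_ne_zero (pow_ne_zero j (WittVector.irreducible p).ne_zero)⟩, ?_⟩
    refine (Submodule.Quotient.mk_eq_zero S).2 ?_
    exact mem_pPow_natCast.2 ⟨z, hz, natPow_smul_eq j z⟩
  haveI := FrobAlg54.isArtinian_of_isTorsion htor
  let D' : ℕ → Submodule (WittVector p k) (M ⧸ S) := fun n => ((D n).comap M.subtype).map S.mkQ
  have hanti' : Antitone D' := fun a b hab => Submodule.map_mono (Submodule.comap_mono (hanti hab))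
  obtain ⟨n₀, hn₀⟩ := IsArtinian.monotone_stabilizes (R := WittVector p k) (M := M ⧸ S)
    ⟨fun n => OrderDual.toDual (D' n), fun _ _ h => hanti' h⟩
  refine ⟨n₀, fun n hn => ?_⟩
  have h := congrArg (Submodule.comap S.mkQ) (OrderDual.toDual.injective (hn₀ n hn))
  simp only [D', Submodule.comap_map_eq, Submodule.ker_mkQ] at h
  rw [sup_eq_left.2 (Submodule.comap_mono (hlo n₀)), sup_eq_left.2 (Submodule.comap_mono (hlo n))] at h
  have h2 := congrArg (Submodule.map M.subtype) h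
  rw [Submodule.map_comap_subtype, Submodule.map_comap_subtype, inf_eq_right.2 (hhi _),
    inf_eq_right.2 (hhi _)] at h2
  exact h2.symm

section Fitting

variable (hτ : Good τ) (M : Submodule (WittVector p k) N) (hMG : Isoc.latImg G 1 M ≤ M)

include hτ hMG in
theorem latImg_le_self (n : ℕ) : Isoc.latImg G n M ≤ M := by
  induction n with
  | zero => rw [latImg_zero]
  | succ n ih =>
    rw [← latImg_latImg hτ]
    exact (latImg_mono n hMG).trans ih

include hτ hMG in
theorem latImg_anti {a b : ℕ} (h : a ≤ b) : Isoc.latImg G b M ≤ Isoc.latImg G a M := by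
  obtain ⟨c, rfl⟩ := Nat.exists_eq_add_of_le h
  rw [← latImg_latImg hτ]
  exact latImg_mono a (latImg_le_self hτ M hMG c)

/-- The image part modulo `p^j`. -/
noncomputable def imgPart (G : N →ₛₗ[τ] N) (M : Submodule (WittVector p k) N) (j : ℕ) :
    Submodule (WittVector p k) N :=
  ⨅ n : ℕ, (Isoc.latImg G n M ⊔ Isoc.pPow (j : ℤ) M)

/-- Elements of `M` sent into `p^j M` by `G^n`. -/
def kerStep (G : N →ₛₗ[τ] N) (hτ : Good τ) (M : Submodule (WittVector p k) N) (n j : ℕ) :
    Submodule (WittVector p k) N where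
  carrier := {x | x ∈ M ∧ (⇑G)^[n] x ∈ Isoc.pPow (j : ℤ) M}
  zero_mem' := ⟨zero_mem _, by rw [iterate_map_zero']; exact zero_mem _⟩
  add_mem' := fun {a b} ha hb =>
    ⟨add_mem ha.1 hb.1, by rw [iterate_map_add']; exact add_mem ha.2 hb.2⟩
  smul_mem' := fun w x hx => ⟨M.smul_mem w hx.1, by
    obtain ⟨w', hw'⟩ := (hτ.pow n).maps w
    rw [← ι_smul w x, iterate_map_smul, hw', ι_smul]
    exact Submodule.smul_mem _ _ hx.2⟩

theorem mem_kerStep {n j : ℕ} {x : N} :
    x ∈ kerStep G hτ M n j ↔ x ∈ M ∧ (⇑G)^[n] x ∈ Isoc.pPow (j : ℤ) M := Iff.rfl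

include hMG in
theorem kerStep_mono (j : ℕ) : Monotone (fun n => kerStep G hτ M n j) := by
  refine monotone_nat_of_le_succ fun n x hx => ⟨hx.1, ?_⟩
  rw [Function.iterate_succ_apply', ← Function.iterate_one (⇑G)]
  have h := image_mem_latImg (F := G) (s := 1) hx.2
  rw [latImg_pPow hτ] at h
  exact pPow_mono _ hMG h

/-- The topologically nilpotent part modulo `p^j`. -/
noncomputable def kerPart (G : N →ₛₗ[τ] N) (hτ : Good τ) (M : Submodule (WittVector p k) N) (j : ℕ) :
    Submodule (WittVector p k) N :=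
  ⨆ n : ℕ, kerStep G hτ M n j

include hMG in
theorem exists_kerPart_eq (hM : M.FG) (j : ℕ) :
    ∃ n₀, ∀ n, n₀ ≤ n → kerPart G hτ M j = kerStep G hτ M n j := by
  haveI : Module.Finite (WittVector p k) M := Module.Finite.iff_fg.2 hM
  haveI : IsNoetherian (WittVector p k) M := isNoetherian_of_isNoetherianRing_of_finite _ _
  obtain ⟨n₀, hn₀⟩ := monotone_stabilizes_iff_noetherian.mpr
    (inferInstance : IsNoetherian (WittVector p k) M)
    ⟨fun n => (kerStep G hτ M n j).comap M.subtype,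
      fun a b h => Submodule.comap_mono (kerStep_mono hτ M hMG j h)⟩
  have hst : ∀ n, n₀ ≤ n → kerStep G hτ M n j ≤ kerStep G hτ M n₀ j := fun n hn x hx => by
    have h : (kerStep G hτ M n₀ j).comap M.subtype = (kerStep G hτ M n j).comap M.subtype := hn₀ n hn
    exact (SetLike.ext_iff.1 h ⟨x, hx.1⟩).2 hx
  refine ⟨n₀, fun n hn => le_antisymm (iSup_le fun m => ?_) (le_iSup (fun m => kerStep G hτ M m j) n)⟩
  exact (kerStep_mono hτ M hMG j (le_max_right n m)).trans
    ((hst _ (hn.trans (le_max_left n m))).trans (kerStep_mono hτ M hMG j hn))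

include hτ hMG in
theorem exists_imgPart_eq (hM : M.FG) (j : ℕ) :
    ∃ n₀, ∀ n, n₀ ≤ n → imgPart G M j = Isoc.latImg G n M ⊔ Isoc.pPow (j : ℤ) M := by
  obtain ⟨n₀, hn₀⟩ := exists_stabilize M hM j (fun n => Isoc.latImg G n M ⊔ Isoc.pPow (j : ℤ) M)
    (fun n => le_sup_right) (fun n => sup_le (latImg_le_self hτ M hMG n) (pPow_natCast_le j M))
    (fun a b h => sup_le_sup_right (latImg_anti hτ M hMG h) _)
  refine ⟨n₀, fun n hn => le_antisymm (iInf_le _ n) (le_iInf fun m => ?_)⟩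
  rw [hn₀ n hn, ← hn₀ _ (le_max_left n₀ m)]
  exact sup_le_sup_right (latImg_anti hτ M hMG (le_max_right _ _)) _

theorem pPow_le_imgPart (j : ℕ) : Isoc.pPow (j : ℤ) M ≤ imgPart G M j :=
  le_iInf fun _ => le_sup_right

theorem imgPart_le (j : ℕ) : imgPart G M j ≤ M := by
  refine (iInf_le _ 0).trans ?_
  rw [latImg_zero]
  exact sup_le le_rfl (pPow_natCast_le j M)

theorem imgPart_anti {i j : ℕ} (h : i ≤ j) : imgPart G M j ≤ imgPart G M i :=
  iInf_mono fun n => sup_le_sup_left (pPow_le_pPow (by exact_mod_cast h) M) _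

theorem pPow_le_kerPart (j : ℕ) : Isoc.pPow (j : ℤ) M ≤ kerPart G hτ M j :=
  le_trans (fun x hx => (mem_kerStep hτ M).2 ⟨pPow_natCast_le j M hx, hx⟩)
    (le_iSup (fun n => kerStep G hτ M n j) 0)

theorem kerPart_le (j : ℕ) : kerPart G hτ M j ≤ M := iSup_le fun _ _ hx => hx.1

theorem kerPart_anti {i j : ℕ} (h : i ≤ j) : kerPart G hτ M j ≤ kerPart G hτ M i :=
  iSup_mono fun n x hx => ⟨hx.1, pPow_le_pPow (by exact_mod_cast h) M hx.2⟩

include hMG in
theorem fitting_sup (hM : M.FG) (j : ℕ) : M ≤ imgPart G M j ⊔ kerPart G hτ M j := by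
  intro x hx
  obtain ⟨n₁, h₁⟩ := exists_imgPart_eq hτ M hMG hM j
  have hGx : (⇑G)^[n₁] x ∈ imgPart G M j := by
    rw [h₁ n₁ le_rfl]
    exact Submodule.mem_sup_left (image_mem_latImg hx)
  rw [h₁ (n₁ + n₁) (Nat.le_add_left _ _), Submodule.mem_sup] at hGx
  obtain ⟨a, ha, b, hb, hab⟩ := hGx
  obtain ⟨y, hy, rfl⟩ := (mem_latImg hτ).1 ha
  refine Submodule.mem_sup.2 ⟨(⇑G)^[n₁] y, ?_, x - (⇑G)^[n₁] y, ?_, add_sub_cancel _ _⟩
  · rw [h₁ n₁ le_rfl]
    exact Submodule.mem_sup_left (image_mem_latImg hy)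
  · refine le_iSup (fun n => kerStep G hτ M n j) n₁
      ⟨sub_mem hx (latImg_le_self hτ M hMG n₁ (image_mem_latImg hy)), ?_⟩
    have e : (⇑G)^[n₁] (x - (⇑G)^[n₁] y) = b := by
      have h := iterate_map_add' (F := G) n₁ (x - (⇑G)^[n₁] y) ((⇑G)^[n₁] y)
      rw [sub_add_cancel, ← Function.iterate_add_apply, ← hab, add_comm] at h
      exact (add_right_cancel h).symm
    rw [e]
    exact hb

include hMG in
theorem fitting_inf (hM : M.FG) (j : ℕ) :
    imgPart G M j ⊓ kerPart G hτ M j ≤ Isoc.pPow (j : ℤ) M := by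
  rintro x ⟨hxU, hxV⟩
  obtain ⟨n, hn⟩ := exists_kerPart_eq hτ M hMG hM j
  obtain ⟨a, ha, b, hb, rfl⟩ := Submodule.mem_sup.1 ((Submodule.mem_iInf _).1 hxU n)
  obtain ⟨y, hy, rfl⟩ := (mem_latImg hτ).1 ha
  have hk : kerStep G hτ M n j = kerPart G hτ M j := (hn n le_rfl).symm
  have hb' : b ∈ kerPart G hτ M j := pPow_le_kerPart hτ M j hb
  have hyk : (⇑G)^[n] y ∈ kerStep G hτ M n j := by
    rw [hk]
    have := sub_mem hxV hb'
    rwa [add_sub_cancel_right] at this
  have hy2 : y ∈ kerStep G hτ M (n + n) j := ⟨hy, by rw [Function.iterate_add_apply]; exact hyk.2⟩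
  rw [← hn _ (Nat.le_add_left _ _), hn n le_rfl] at hy2
  exact add_mem hy2.2 hb

/-- The part on which `G` is bijective. -/
noncomputable def unitPart (G : N →ₛₗ[τ] N) (M : Submodule (WittVector p k) N) : Submodule (WittVector p k) N :=
  ⨅ j : ℕ, imgPart G M j

/-- The topologically nilpotent part. -/
noncomputable def nilPart (G : N →ₛₗ[τ] N) (hτ : Good τ) (M : Submodule (WittVector p k) N) :
    Submodule (WittVector p k) N :=
  ⨅ j : ℕ, kerPart G hτ M j

theorem unitPart_le : unitPart G M ≤ M := (iInf_le _ 0).trans (imgPart_le M 0)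

theorem nilPart_le : nilPart G hτ M ≤ M := (iInf_le _ 0).trans (kerPart_le hτ M 0)

include hMG in
theorem unitPart_sup_nilPart (hM : M.FG) : unitPart G M ⊔ nilPart G hτ M = M := by
  refine le_antisymm (sup_le (unitPart_le M) (nilPart_le hτ M)) fun x hx => ?_
  choose u hu v hv huv using fun j => Submodule.mem_sup.1 (fitting_sup hτ M hMG hM j hx)
  have hdiff : ∀ j : ℕ, u (j + 1) - u j ∈ Isoc.pPow (j : ℤ) M := fun j => by
    refine fitting_inf hτ M hMG hM j ⟨sub_mem (imgPart_anti M (Nat.le_succ j) (hu _)) (hu j), ?_⟩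
    have e : u (j + 1) - u j = v j - v (j + 1) := by
      rw [sub_eq_sub_iff_add_eq_add, huv (j + 1), add_comm (v j), huv j]
    rw [e]
    exact sub_mem (hv j) (kerPart_anti hτ M (Nat.le_succ j) (hv _))
  obtain ⟨l, hl, hlj⟩ := exists_limit hM u (fun j => imgPart_le M j (hu j)) hdiff
  refine Submodule.mem_sup.2 ⟨l, (Submodule.mem_iInf _).2 fun j => ?_, x - l,
    (Submodule.mem_iInf _).2 fun j => ?_, add_sub_cancel _ _⟩
  · have := sub_mem (hu j) (pPow_le_imgPart (G := G) M j (hlj j))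
    rwa [sub_sub_cancel] at this
  · have := add_mem (hv j) (pPow_le_kerPart hτ M j (hlj j))
    rwa [show v j + (u j - l) = x - l by rw [← huv j]; abel] at this

include hMG in
theorem eq_zero_of_mem_both [Module.Finite K(p, k) N] [hML : M.IsLattice K(p, k)] {x : N}
    (hU : x ∈ unitPart G M) (hV : x ∈ nilPart G hτ M) : x = 0 := by
  refine eq_zero_of_forall_mem_pPow M fun n => ?_
  refine fitting_inf hτ M hMG hML.fg n ⟨?_, ?_⟩
  · exact (Submodule.mem_iInf _).1 hU _
  · exact (Submodule.mem_iInf _).1 hV _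

theorem le_unitPart {X : Submodule (WittVector p k) N} (hXM : X ≤ M)
    (hX : ∀ n, X ≤ Isoc.latImg G n X) : X ≤ unitPart G M :=
  le_iInf fun _ => le_iInf fun n => le_sup_of_le_left ((hX n).trans (latImg_mono n hXM))

theorem le_nilPart {X : Submodule (WittVector p k) N} (hXM : X ≤ M)
    (hX : ∀ j : ℕ, ∃ n, Isoc.latImg G n X ≤ Isoc.pPow (j : ℤ) M) : X ≤ nilPart G hτ M :=
  le_iInf fun j => by
    obtain ⟨n, hn⟩ := hX j
    exact le_trans (fun x hx => (mem_kerStep hτ M).2 ⟨hXM hx, hn (image_mem_latImg hx)⟩)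
      (le_iSup (fun n => kerStep G hτ M n j) n)

include hMG in
theorem nilPart_small (hM : M.FG) (j : ℕ) :
    ∃ n, Isoc.latImg G n (nilPart G hτ M) ≤ Isoc.pPow (j : ℤ) M := by
  obtain ⟨n, hn⟩ := exists_kerPart_eq hτ M hMG hM j
  refine ⟨n, latImg_le_iff.2 fun x hx => ?_⟩
  have h := (Submodule.mem_iInf _).1 hx j
  rw [hn n le_rfl] at h
  exact h.2

include hτ hMG in
theorem latImg_imgPart_le (j : ℕ) : Isoc.latImg G 1 (imgPart G M j) ≤ imgPart G M j := by
  refine le_iInf fun n => (latImg_mono 1 (iInf_le _ n)).trans ?_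
  rw [latImg_sup hτ, latImg_pPow hτ, latImg_latImg hτ]
  exact sup_le_sup (latImg_anti hτ M hMG (Nat.le_add_left n 1)) (pPow_mono _ hMG)

include hτ hMG in
theorem latImg_unitPart_le : Isoc.latImg G 1 (unitPart G M) ≤ unitPart G M :=
  le_iInf fun j => (latImg_mono 1 (iInf_le _ j)).trans (latImg_imgPart_le hτ M hMG j)

include hMG in
theorem latImg_nilPart_le : Isoc.latImg G 1 (nilPart G hτ M) ≤ nilPart G hτ M := by
  refine le_iInf fun j => latImg_le_iff.2 fun x hx => ?_
  rw [Function.iterate_one]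
  have h : x ∈ kerPart G hτ M j := (Submodule.mem_iInf _).1 hx j
  have hG : ∀ z ∈ M, G z ∈ M := fun z hz => hMG (image_mem_latImg (s := 1) hz)
  clear hx
  induction h using Submodule.iSup_induction' with
  | mem n y hy =>
    rcases n with _ | n
    · refine le_iSup (fun n => kerStep G hτ M n j) 0 ⟨hG y hy.1, ?_⟩
      have h2 : G y ∈ Isoc.latImg G 1 (Isoc.pPow (j : ℤ) M) :=
        image_mem_latImg (s := 1) (show y ∈ Isoc.pPow (j : ℤ) M by simpa using hy.2)
      rw [latImg_pPow hτ] at h2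
      simpa using pPow_mono _ hMG h2
    · refine le_iSup (fun n => kerStep G hτ M n j) n ⟨hG y hy.1, ?_⟩
      rw [← Function.iterate_succ_apply]
      exact hy.2
  | zero => rw [map_zero]; exact zero_mem _
  | add y z _ _ hy hz => rw [map_add]; exact add_mem hy hz

include hτ hMG in
theorem latImg_unitPart [Module.Finite K(p, k) N] [hML : M.IsLattice K(p, k)] :
    Isoc.latImg G 1 (unitPart G M) = unitPart G M := by
  refine le_antisymm (latImg_unitPart_le hτ M hMG) ?_
  have hfg : (unitPart G M).FG := by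
    haveI : Module.Finite (WittVector p k) M := Module.Finite.iff_fg.2 hML.fg
    haveI : IsNoetherian (WittVector p k) M := isNoetherian_of_isNoetherianRing_of_finite _ _
    exact Submodule.FG.of_le_of_isNoetherian (unitPart_le M)
  refine Submodule.le_of_le_smul_of_le_jacobson_bot hfg
    (IsAdicComplete.le_jacobson_bot (Ideal.span {(p : WittVector p k)})) fun u hu => ?_
  have hu1 := (Submodule.mem_iInf _).1 ((Submodule.mem_iInf _).1 hu 1) 1
  obtain ⟨a, ha, b, hb, hab⟩ := Submodule.mem_sup.1 hu1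
  obtain ⟨y, hy, rfl⟩ := (mem_latImg hτ).1 ha
  obtain ⟨z, hz, rfl⟩ := mem_pPow_natCast.1 hb
  rw [← unitPart_sup_nilPart hτ M hMG hML.fg, Submodule.mem_sup] at hy hz
  obtain ⟨y₁, hy₁, y₂, hy₂, rfl⟩ := hy
  obtain ⟨z₁, hz₁, z₂, hz₂, rfl⟩ := hz
  rw [pow_one, Function.iterate_one, map_add, smul_add] at hab
  have hp : ∀ (X : Submodule (WittVector p k) N) (z : N), z ∈ X → (p : K(p, k)) • z ∈ X :=
    fun X z hz => by
      have := natPow_smul_eq (p := p) (k := k) 1 z
      rw [pow_one, pow_one] at this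
      rw [this]; exact X.smul_mem _ hz
  have e : u - G y₁ - (p : K(p, k)) • z₁ = G y₂ + (p : K(p, k)) • z₂ := by rw [← hab]; abel
  have h0 : u - G y₁ - (p : K(p, k)) • z₁ = 0 := by
    refine eq_zero_of_mem_both hτ M hMG
      (sub_mem (sub_mem hu (latImg_unitPart_le hτ M hMG (image_mem_latImg (s := 1) hy₁)))
        (hp _ _ hz₁)) ?_
    rw [e]
    exact add_mem (latImg_nilPart_le hτ M hMG (image_mem_latImg (s := 1) hy₂)) (hp _ _ hz₂)
  refine Submodule.mem_sup.2 ⟨G y₁, image_mem_latImg (s := 1) hy₁, (p : K(p, k)) • z₁, ?_, ?_⟩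
  · have := natPow_smul_eq (p := p) (k := k) 1 z₁
    rw [pow_one, pow_one] at this
    rw [this]
    exact Submodule.smul_mem_smul (Ideal.mem_span_singleton_self _) hz₁
  · rw [sub_sub, sub_eq_zero] at h0
    exact h0.symm

end Fitting

end Groth.Agent.Isoc53
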