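import Groth.Agent.Isoc53.Isoclinic
import Mathlib

/-!
Isoclinic parts: functoriality and independence.
-/

set_option autoImplicit false
set_option linter.unusedSectionVars false
universe u v w
open scoped Isocrystal

namespace Groth.Agent.Isoc53

variable {p : ℕ} [Fact p.Prime] {k : Type u} [Field k] [CharP k p] [PerfectRing k p]
variable {τ : K(p, k) →+* K(p, k)}
variable {N : Type v} [AddCommGroup N] [Module (WittVector p k) N] [Module K(p, k) N]
  [IsScalarTower (WittVector p k) K(p, k) N] {F : N →ₛₗ[τ] N}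

theorem natPow_smul_eq (n : ℕ) (x : N) :
    ((p : K(p, k)) ^ n) • x = ((p : WittVector p k) ^ n) • x := by
  rw [← ι_smul ((p : WittVector p k) ^ n) x, map_pow, map_natCast]

theorem exists_natPow_smul_mem {M : Submodule (WittVector p k) N} {x : N}
    (hx : x ∈ Submodule.span K(p, k) (M : Set N)) :
    ∃ i : ℕ, ∀ n, i ≤ n → ((p : K(p, k)) ^ n) • x ∈ M := by
  induction hx using Submodule.span_induction with
  | mem y hy => exact ⟨0, fun n _ => by rw [natPow_smul_eq]; exact M.smul_mem _ hy⟩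
  | zero => exact ⟨0, fun n _ => by rw [smul_zero]; exact zero_mem _⟩
  | add y z _ _ hy hz =>
    obtain ⟨i, hi⟩ := hy
    obtain ⟨j, hj⟩ := hz
    exact ⟨max i j, fun n hn => by
      rw [smul_add]; exact add_mem (hi n (by omega)) (hj n (by omega))⟩
  | smul c y _ hy =>
    obtain ⟨i, hi⟩ := hy
    obtain ⟨j, hj⟩ := exists_zpow_mul_isInt c
    refine ⟨i + j.toNat, fun n hn => ?_⟩
    obtain ⟨w, hw⟩ := hj ((n - i : ℕ) : ℤ) (by omega)
    rw [zpow_natCast] at hw
    have e : (p : K(p, k)) ^ n * c = ι p k w * (p : K(p, k)) ^ i := by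
      rw [hw, mul_right_comm, ← pow_add, show n - i + i = n by omega]
    rw [smul_smul, e, mul_smul, ι_smul]
    exact M.smul_mem _ (hi i le_rfl)

theorem IsoPart.map {N₂ : Type w} [AddCommGroup N₂] [Module (WittVector p k) N₂] [Module K(p, k) N₂]
    [IsScalarTower (WittVector p k) K(p, k) N₂] [Module.Finite K(p, k) N] [Module.Finite K(p, k) N₂]
    {F₂ : N₂ →ₛₗ[τ] N₂} (hτ : Good τ) (f : N →ₗ[K(p, k)] N₂) (hf : ∀ x, f (F x) = F₂ (f x))
    {μ : ℚ} {P : Submodule K(p, k) N} (h : IsoPart F μ P) : IsoPart F₂ μ (P.map f) := by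
  obtain ⟨hP, M, r, s, hfg, hspan, hs, hμ, he⟩ := h
  refine ⟨?_, M.map (f.restrictScalars (WittVector p k)), r, s, hfg.map _, ?_, hs, hμ, ?_⟩
  · rintro _ ⟨x, hx, rfl⟩
    exact ⟨F x, hP x hx, hf x⟩
  · rw [show ((M.map (f.restrictScalars (WittVector p k)) : Submodule (WittVector p k) N₂) : Set N₂)
      = f '' (M : Set N) from rfl, ← Submodule.map_span, hspan]
  · rw [← map_latImg f hτ hf, he, map_pPow]

variable [Module.Finite K(p, k) N]

theorem IsoPart.of_le (hτ : Good τ) (hF : Function.Bijective F) {μ : ℚ} {P Q : Submodule K(p, k) N}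
    (h : IsoPart F μ P) (hQ : ∀ x ∈ Q, F x ∈ Q) (hle : Q ≤ P) : IsoPart F μ Q := by
  obtain ⟨hP, M, r, s, hfg, hspan, hs, hμ, he⟩ := h
  have hQs : ∀ (n : ℕ) (x : N), x ∈ Q → (⇑F)^[n] x ∈ Q := by
    intro n
    induction n with
    | zero => exact fun x hx => hx
    | succ n ih => exact fun x hx => by rw [Function.iterate_succ_apply']; exact hQ _ (ih x hx)
  refine ⟨hQ, M ⊓ Q.restrictScalars (WittVector p k), r, s, ?_, ?_, hs, hμ, ?_⟩
  · haveI : Module.Finite (WittVector p k) M := Module.Finite.iff_fg.2 hfg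
    haveI : IsNoetherian (WittVector p k) M := isNoetherian_of_isNoetherianRing_of_finite _ _
    exact Submodule.FG.of_le_of_isNoetherian inf_le_left
  · refine le_antisymm (Submodule.span_le.2 fun x hx => hx.2) fun x hx => ?_
    obtain ⟨i, hi⟩ := exists_natPow_smul_mem (hspan.symm ▸ hle hx : x ∈ Submodule.span K(p, k) (M : Set N))
    refine (Submodule.smul_mem_iff _ (pow_ne_zero i (p_ne_zero (p := p) (k := k)))).1
      (Submodule.subset_span ⟨hi i le_rfl, ?_⟩)
    exact Q.smul_mem _ hx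
  · ext x
    rw [mem_latImg hτ, mem_pPow]
    constructor
    · rintro ⟨y, hy, rfl⟩
      exact ⟨mem_pPow.1 (he ▸ image_mem_latImg hy.1), Q.smul_mem _ (hQs s y hy.2)⟩
    · intro hx
      have hxQ : x ∈ Q := (Submodule.smul_mem_iff _ (zpow_p_ne_zero (p := p) (k := k) (-r))).1 hx.2
      have hxM : x ∈ Isoc.latImg F s M := by rw [he, mem_pPow]; exact hx.1
      obtain ⟨y, hy, rfl⟩ := (mem_latImg hτ).1 hxM
      exact ⟨y, ⟨hy, mem_of_iterate_mem hτ hF hQ hxQ⟩, rfl⟩

theorem IsoPart.eq_bot_of_ne (hτ : Good τ) (hF : Function.Bijective F) {μ ν : ℚ}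
    {P : Submodule K(p, k) N} (hμ : IsoPart F μ P) (hν : IsoPart F ν P) (hne : μ ≠ ν) : P = ⊥ := by
  obtain ⟨hP, h₁⟩ := (isoPart_iff hτ μ P).1 hμ
  obtain ⟨_, h₂⟩ := (isoPart_iff hτ ν P).1 hν
  have h0 := hom_eq_zero (LinearMap.id : P →ₗ[K(p, k)] P) hτ (restrict_bijective hτ hF hP)
    (fun _ => rfl) h₁ h₂ hne
  refine (Submodule.eq_bot_iff _).2 fun x hx => ?_
  exact congrArg Subtype.val (LinearMap.congr_fun h0 ⟨x, hx⟩)

theorem mapQ_bijective (hτ : Good τ) (hF : Function.Bijective F) {B : Submodule K(p, k) N}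
    (hB : B ≤ B.comap F) : Function.Bijective (B.mapQ B F hB) := by
  haveI : RingHomSurjective τ := ⟨hτ.bijective.2⟩
  refine ⟨(injective_iff_map_eq_zero _).2 fun x hx => ?_, fun y => ?_⟩
  · obtain ⟨x, rfl⟩ := B.mkQ_surjective x
    refine (Submodule.Quotient.mk_eq_zero B).2 (mem_of_iterate_mem hτ hF (P := B) (fun z hz => hB hz) (n := 1) ?_)
    rw [Function.iterate_one]
    exact (Submodule.Quotient.mk_eq_zero B).1 hx
  · obtain ⟨y, rfl⟩ := B.mkQ_surjective y
    obtain ⟨x, rfl⟩ := hF.2 y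
    exact ⟨B.mkQ x, rfl⟩

theorem slopePart_stable (hτ : Good τ) (μ : ℚ) :
    ∀ x ∈ Isoc.slopePart F μ, F x ∈ Isoc.slopePart F μ := (isoPart_slopePart hτ μ).1

theorem disjoint_slopePart_finset (hτ : Good τ) (hF : Function.Bijective F) (S : Finset ℚ) :
    ∀ μ ∉ S, Disjoint (Isoc.slopePart F μ) (S.sup (Isoc.slopePart F)) := by
  classical
  induction S using Finset.induction_on with
  | empty => intro μ _; rw [Finset.sup_empty]; exact disjoint_bot_right
  | insert ν S hνS ih =>
    intro μ hμ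
    rw [Finset.mem_insert, not_or] at hμ
    rw [Finset.sup_insert]
    have hBst : ∀ T : Finset ℚ, ∀ x ∈ T.sup (Isoc.slopePart F), F x ∈ T.sup (Isoc.slopePart F) := by
      intro T
      induction T using Finset.induction_on with
      | empty =>
        intro x hx
        rw [Finset.sup_empty, Submodule.mem_bot] at hx ⊢
        rw [hx, map_zero]
      | insert a T _ iT =>
        intro x hx
        rw [Finset.sup_insert] at hx ⊢
        obtain ⟨y, hy, z, hz, rfl⟩ := Submodule.mem_sup.1 hx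
        rw [map_add]
        exact Submodule.add_mem_sup (slopePart_stable hτ a y hy) (iT z hz)
    set B := S.sup (Isoc.slopePart F) with hBdef
    set X := Isoc.slopePart F μ ⊓ (Isoc.slopePart F ν ⊔ B) with hXdef
    have hXst : ∀ x ∈ X, F x ∈ X := by
      intro x hx
      refine ⟨slopePart_stable hτ μ x hx.1, ?_⟩
      obtain ⟨y, hy, z, hz, rfl⟩ := Submodule.mem_sup.1 hx.2
      rw [map_add]
      exact Submodule.add_mem_sup (slopePart_stable hτ ν y hy) (hBst S z hz)
    have hX : IsoPart F μ X := (isoPart_slopePart hτ μ).of_le hτ hF hXst inf_le_left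
    have hBc : B ≤ B.comap F := fun x hx => hBst S x hx
    have hXB : X ≤ B := by
      have h1 : IsoPart (B.mapQ B F hBc) μ (X.map B.mkQ) := hX.map hτ B.mkQ fun _ => rfl
      have h2 : IsoPart (B.mapQ B F hBc) ν ((Isoc.slopePart F ν).map B.mkQ) :=
        (isoPart_slopePart hτ ν).map hτ B.mkQ fun _ => rfl
      have hle : X.map B.mkQ ≤ (Isoc.slopePart F ν).map B.mkQ := by
        refine (Submodule.map_mono inf_le_right).trans ?_
        rw [Submodule.map_sup, Submodule.mkQ_map_self, sup_bot_eq]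
      have h3 := h2.of_le hτ (mapQ_bijective hτ hF hBc) h1.1 hle
      have h4 := h1.eq_bot_of_ne hτ (mapQ_bijective hτ hF hBc) h3 hμ.1
      intro x hx
      exact (Submodule.Quotient.mk_eq_zero B).1 ((Submodule.mem_bot _).1 (h4 ▸ Submodule.mem_map_of_mem hx))
    rw [disjoint_iff, eq_bot_iff, ← (ih μ hμ.2).eq_bot]
    exact le_inf inf_le_left hXB

theorem iSupIndep_slopePart (hτ : Good τ) (hF : Function.Bijective F) :
    iSupIndep (fun μ : ℚ => Isoc.slopePart F μ) := by
  classical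
  intro μ
  rw [Submodule.disjoint_def]
  intro x hx hx'
  obtain ⟨S, hS⟩ : ∃ S : Finset ℚ, μ ∉ S ∧ x ∈ S.sup (Isoc.slopePart F) := by
    rw [iSup_subtype', Submodule.mem_iSup_iff_exists_finset] at hx'
    obtain ⟨T, hT⟩ := hx'
    refine ⟨T.image Subtype.val, ?_, ?_⟩
    · intro hmem
      obtain ⟨t, -, ht⟩ := Finset.mem_image.1 hmem
      exact t.2 ht
    · refine (iSup₂_le fun t ht => ?_ : (⨆ t ∈ T, Isoc.slopePart F t.1) ≤ _) hT
      exact Finset.le_sup (f := Isoc.slopePart F) (Finset.mem_image_of_mem _ ht)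
  exact Submodule.disjoint_def.1 (disjoint_slopePart_finset hτ hF S μ hS.1) x hx hS.2

end Groth.Agent.Isoc53
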