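import Groth.Agent.Isoc53.Slope
import Mathlib

/-!
Isoclinic isocrystals.
-/

set_option autoImplicit false
set_option linter.unusedSectionVars false
universe u v w
open scoped Isocrystal

namespace Groth.Agent.Isoc53

variable {p : ℕ} [Fact p.Prime] {k : Type u} [Field k] [CharP k p] [PerfectRing k p]
variable {τ : K(p, k) →+* K(p, k)}

theorem latImg_mul_eq {N : Type v} [AddCommGroup N] [Module (WittVector p k) N] [Module K(p, k) N]
    [IsScalarTower (WittVector p k) K(p, k) N] {F : N →ₛₗ[τ] N} (hτ : Good τ)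
    (A : Submodule (WittVector p k) N) (c : ℤ) (t : ℕ) (h : Isoc.latImg F t A = Isoc.pPow c A)
    (j : ℕ) : Isoc.latImg F (j * t) A = Isoc.pPow ((j : ℤ) * c) A := by
  induction j with
  | zero => rw [zero_mul, latImg_zero, Nat.cast_zero, zero_mul, pPow_zero]
  | succ j ih =>
    rw [add_mul, one_mul, add_comm, ← latImg_latImg hτ, ih, latImg_pPow hτ, h, pPow_pPow]
    congr 1
    push_cast
    ring

section Morphism

variable {N₁ : Type v} [AddCommGroup N₁] [Module (WittVector p k) N₁] [Module K(p, k) N₁]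
  [IsScalarTower (WittVector p k) K(p, k) N₁]
variable {N₂ : Type w} [AddCommGroup N₂] [Module (WittVector p k) N₂] [Module K(p, k) N₂]
  [IsScalarTower (WittVector p k) K(p, k) N₂]
variable {F₁ : N₁ →ₛₗ[τ] N₁} {F₂ : N₂ →ₛₗ[τ] N₂} (f : N₁ →ₗ[K(p, k)] N₂)

theorem iterate_comm (hf : ∀ x, f (F₁ x) = F₂ (f x)) (n : ℕ) (x : N₁) :
    f ((⇑F₁)^[n] x) = (⇑F₂)^[n] (f x) :=
  (Function.Semiconj.iterate_right (show Function.Semiconj f F₁ F₂ from hf) n) x

theorem map_latImg (hτ : Good τ) (hf : ∀ x, f (F₁ x) = F₂ (f x)) (s : ℕ)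
    (M : Submodule (WittVector p k) N₁) :
    (Isoc.latImg F₁ s M).map (f.restrictScalars (WittVector p k))
      = Isoc.latImg F₂ s (M.map (f.restrictScalars (WittVector p k))) := by
  ext x
  rw [Submodule.mem_map, mem_latImg hτ]
  constructor
  · rintro ⟨y, hy, rfl⟩
    obtain ⟨z, hz, rfl⟩ := (mem_latImg hτ).1 hy
    exact ⟨f z, ⟨z, hz, rfl⟩, (iterate_comm f hf s z).symm⟩
  · rintro ⟨_, ⟨z, hz, rfl⟩, rfl⟩
    exact ⟨_, image_mem_latImg hz, iterate_comm f hf s z⟩

theorem map_pPow (r : ℤ) (M : Submodule (WittVector p k) N₁) :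
    (Isoc.pPow r M).map (f.restrictScalars (WittVector p k))
      = Isoc.pPow r (M.map (f.restrictScalars (WittVector p k))) := by
  ext x
  rw [Submodule.mem_map, mem_pPow]
  constructor
  · rintro ⟨y, hy, rfl⟩
    exact ⟨_, mem_pPow.1 hy, f.map_smul _ _⟩
  · rintro ⟨z, hz, hzx⟩
    refine ⟨(p : K(p, k)) ^ r • z, mem_pPow.2 ?_, ?_⟩
    · rwa [smul_smul, ← zpow_add₀ p_ne_zero, neg_add_cancel, zpow_zero, one_smul]
    · change f _ = x
      rw [map_smul, show f z = (p : K(p, k)) ^ (-r) • x from hzx, smul_smul, ← zpow_add₀ p_ne_zero,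
        add_neg_cancel, zpow_zero, one_smul]

/-- Equivariant maps between isoclinic isocrystals of different slopes vanish. -/
theorem hom_eq_zero [Module.Finite K(p, k) N₂] (hτ : Good τ) (hF₂ : Function.Bijective F₂)
    (hf : ∀ x, f (F₁ x) = F₂ (f x)) {μ₁ μ₂ : ℚ} (h₁ : Isoc.IsIsoclinic F₁ μ₁)
    (h₂ : Isoc.IsIsoclinic F₂ μ₂) (hne : μ₁ ≠ μ₂) : f = 0 := by
  obtain ⟨M₁, hM₁, r₁, s₁, hs₁, hμ₁, e₁⟩ := h₁
  obtain ⟨M₂, hM₂, r₂, s₂, hs₂, hμ₂, e₂⟩ := h₂
  haveI := hM₂
  have hS₁ : Isoc.latImg F₁ (s₂ * s₁) M₁ = Isoc.pPow ((s₂ : ℤ) * r₁) M₁ :=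
    latImg_mul_eq hτ M₁ r₁ s₁ e₁ s₂
  have hS₂ : Isoc.latImg F₂ (s₂ * s₁) M₂ = Isoc.pPow ((s₁ : ℤ) * r₂) M₂ := by
    rw [mul_comm]; exact latImg_mul_eq hτ M₂ r₂ s₂ e₂ s₁
  set X := M₁.map (f.restrictScalars (WittVector p k))
  have hX : Isoc.latImg F₂ (s₂ * s₁) X = Isoc.pPow ((s₂ : ℤ) * r₁) X := by
    rw [← map_latImg f hτ hf, hS₁, map_pPow]
  suffices hzero : ∀ x ∈ M₁, f x = 0 by
    refine LinearMap.ext fun y => ?_
    have hy : y ∈ Submodule.span K(p, k) (M₁ : Set N₁) := by rw [hM₁.span_eq_top]; trivial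
    induction hy using Submodule.span_induction with
    | mem y hy => exact hzero y hy
    | zero => exact map_zero f
    | add a b _ _ ha hb => rw [map_add, ha, hb, LinearMap.zero_apply, LinearMap.zero_apply, LinearMap.zero_apply, add_zero]
    | smul c a _ ha => rw [map_smul, ha, LinearMap.zero_apply, smul_zero, LinearMap.zero_apply]
  intro x hx
  by_contra hne0
  have hbdd : ∃ j₀ : ℤ, X ≤ Isoc.pPow j₀ M₂ := by
    classical
    obtain ⟨S, hS⟩ := hM₁.fg.map (f.restrictScalars (WittVector p k))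
    choose j hj using exists_mem_pPow (p := p) (k := k) M₂
    obtain ⟨b, hb⟩ := (S.image j).bddBelow
    refine ⟨b, ?_⟩
    exact hS.ge.trans (Submodule.span_le.2 fun z hz =>
      hj z b (hb (Finset.mem_coe.2 (Finset.mem_image_of_mem j hz))))
  obtain ⟨n₀, hn₀⟩ := not_forall.1 (mt (eq_zero_of_forall_mem_pPow M₂) hne0)
  obtain ⟨j, hj, hmax⟩ := Int.exists_greatest_of_bdd (P := fun j => X ≤ Isoc.pPow j M₂)
    ⟨n₀, fun z hz => by
      by_contra hlt
      exact hn₀ (pPow_le_pPow (le_of_not_ge hlt) M₂ (hz ⟨x, hx, rfl⟩))⟩ hbdd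
  have hA : j + ((s₁ : ℤ) * r₂ - (s₂ : ℤ) * r₁) ≤ j := by
    refine hmax _ ?_
    rw [show j + ((s₁ : ℤ) * r₂ - (s₂ : ℤ) * r₁) = (j + (s₁ : ℤ) * r₂) - (s₂ : ℤ) * r₁ by ring,
      ← pPow_le_pPow_iff, ← hX]
    refine (latImg_mono _ hj).trans ?_
    rw [latImg_pPow hτ, hS₂, pPow_pPow]
  have hB : j + ((s₂ : ℤ) * r₁ - (s₁ : ℤ) * r₂) ≤ j := by
    refine hmax _ ?_
    rw [← latImg_le_latImg_iff hτ hF₂.1 (s := s₂ * s₁), hX, latImg_pPow hτ, hS₂, pPow_pPow]
    refine (pPow_mono _ hj).trans (le_of_eq ?_)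
    rw [pPow_pPow]; congr 1; ring
  have heq : (s₁ : ℤ) * r₂ = (s₂ : ℤ) * r₁ := by omega
  apply hne
  rw [← hμ₁, ← hμ₂, div_eq_div_iff (by exact_mod_cast hs₁.ne') (by exact_mod_cast hs₂.ne')]
  have : ((s₁ : ℤ) : ℚ) * r₂ = ((s₂ : ℤ) : ℚ) * r₁ := by exact_mod_cast heq
  push_cast at this
  linarith

end Morphism

section Sub

variable {N : Type v} [AddCommGroup N] [Module (WittVector p k) N] [Module K(p, k) N]
  [IsScalarTower (WittVector p k) K(p, k) N] {F : N →ₛₗ[τ] N}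

theorem coe_iterate_restrict {P : Submodule K(p, k) N} (hP : ∀ x ∈ P, F x ∈ P) (n : ℕ) (x : P) :
    (((⇑(F.restrict hP))^[n] x : P) : N) = (⇑F)^[n] (x : N) :=
  (Function.Semiconj.iterate_right
    (show Function.Semiconj (Subtype.val : P → N) (F.restrict hP) F from fun _ => rfl) n) x

theorem semilinear_bijective [Module.Finite K(p, k) N] (hτ : Good τ) (hinj : Function.Injective F) :
    Function.Bijective F := by
  refine ⟨hinj, fun y => ?_⟩
  let b := Module.finBasis K(p, k) N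
  have hli : LinearIndependent K(p, k) (F ∘ b) := by
    rw [Fintype.linearIndependent_iff]
    intro c hc i
    choose c' hc' using fun i => hτ.bijective.2 (c i)
    have : F (∑ i, c' i • b i) = 0 := by
      rw [map_sum, ← hc]
      exact Finset.sum_congr rfl fun i _ => by rw [LinearMap.map_smulₛₗ, hc']; rfl
    have h0 := Fintype.linearIndependent_iff.1 b.linearIndependent c' (hinj (by rw [this, map_zero])) i
    rw [← hc', h0, map_zero]
  have hsp := hli.span_eq_top_of_card_eq_finrank' (by simp)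
  have hy : y ∈ Submodule.span K(p, k) (Set.range (F ∘ b)) := hsp ▸ Submodule.mem_top
  obtain ⟨c, rfl⟩ := (Submodule.mem_span_range_iff_exists_fun _).1 hy
  choose c' hc' using fun i => hτ.bijective.2 (c i)
  exact ⟨∑ i, c' i • b i, by
    rw [map_sum]; exact Finset.sum_congr rfl fun i _ => by rw [LinearMap.map_smulₛₗ, hc']; rfl⟩

variable [Module.Finite K(p, k) N]

theorem restrict_bijective (hτ : Good τ) (hF : Function.Bijective F) {P : Submodule K(p, k) N}
    (hP : ∀ x ∈ P, F x ∈ P) : Function.Bijective (F.restrict hP) :=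
  semilinear_bijective hτ fun _ _ h => Subtype.ext (hF.1 (congrArg Subtype.val h))

theorem mem_of_iterate_mem (hτ : Good τ) (hF : Function.Bijective F) {P : Submodule K(p, k) N}
    (hP : ∀ x ∈ P, F x ∈ P) {n : ℕ} {x : N} (hx : (⇑F)^[n] x ∈ P) : x ∈ P := by
  obtain ⟨y, hy⟩ := ((restrict_bijective hτ hF hP).iterate n).2 ⟨_, hx⟩
  have := congrArg Subtype.val hy
  rw [coe_iterate_restrict hP] at this
  exact hF.1.iterate n this ▸ y.2

/-- `P` is stable and isoclinic of slope `μ`, expressed inside `N`. -/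
def IsoPart (F : N →ₛₗ[τ] N) (μ : ℚ) (P : Submodule K(p, k) N) : Prop :=
  (∀ x ∈ P, F x ∈ P) ∧ ∃ (M : Submodule (WittVector p k) N) (r : ℤ) (s : ℕ), M.FG ∧
    Submodule.span K(p, k) (M : Set N) = P ∧ 0 < s ∧ (r : ℚ) / s = μ ∧
      Isoc.latImg F s M = Isoc.pPow r M

theorem isoPart_iff (hτ : Good τ) (μ : ℚ) (P : Submodule K(p, k) N) :
    IsoPart F μ P ↔ ∃ hP : ∀ x ∈ P, F x ∈ P, Isoc.IsIsoclinic (F.restrict hP) μ := by
  constructor
  · rintro ⟨hP, M, r, s, hfg, hspan, hs, hμ, he⟩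
    have hMP : ∀ x ∈ M, x ∈ P := fun x hx => hspan ▸ Submodule.subset_span hx
    refine ⟨hP, M.comap (P.subtype.restrictScalars (WittVector p k)), ⟨?_, ?_⟩, r, s, hs, hμ, ?_⟩
    · refine Submodule.fg_of_fg_map_injective (P.subtype.restrictScalars (WittVector p k))
        Subtype.val_injective ?_
      rwa [Submodule.map_comap_eq_of_le]
      exact fun x hx => ⟨⟨x, hMP x hx⟩, rfl⟩
    · refine Submodule.map_injective_of_injective P.subtype_injective ?_
      rw [Submodule.map_span, Submodule.map_top, Submodule.range_subtype]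
      refine Eq.trans ?_ hspan
      congr 1
      ext x
      exact ⟨fun ⟨y, hy, h⟩ => h ▸ hy, fun hx => ⟨⟨x, hMP x hx⟩, hx, rfl⟩⟩
    · ext x
      rw [mem_latImg hτ, mem_pPow]
      change _ ↔ ((p : K(p, k)) ^ (-r)) • (x : N) ∈ M
      rw [← mem_pPow, ← he, mem_latImg hτ]
      constructor
      · rintro ⟨y, hy, rfl⟩
        exact ⟨y, hy, (coe_iterate_restrict hP s y).symm⟩
      · rintro ⟨y, hy, h⟩
        exact ⟨⟨y, hMP y hy⟩, hy, Subtype.ext (by rw [coe_iterate_restrict]; exact h)⟩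
  · rintro ⟨hP, M, hM, r, s, hs, hμ, he⟩
    refine ⟨hP, M.map (P.subtype.restrictScalars (WittVector p k)), r, s, hM.fg.map _, ?_, hs, hμ, ?_⟩
    · rw [show ((M.map (P.subtype.restrictScalars (WittVector p k)) : Submodule (WittVector p k) N) : Set N)
        = P.subtype '' (M : Set P) from rfl, ← Submodule.map_span, hM.span_eq_top, Submodule.map_top,
        Submodule.range_subtype]
    · rw [← map_latImg P.subtype hτ (F₁ := F.restrict hP) (fun _ => rfl), he, map_pPow]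

theorem IsoPart.sup (hτ : Good τ) {μ : ℚ} {P Q : Submodule K(p, k) N} (hPi : IsoPart F μ P)
    (hQi : IsoPart F μ Q) : IsoPart F μ (P ⊔ Q) := by
  obtain ⟨hP, M, r, s, hfg, hspan, hs, hμ, he⟩ := hPi
  obtain ⟨hQ, M', r', s', hfg', hspan', hs', hμ', he'⟩ := hQi
  refine ⟨?_, M ⊔ M', (s' : ℤ) * r, s' * s, hfg.sup hfg', ?_, Nat.mul_pos hs' hs, ?_, ?_⟩
  · intro x hx
    obtain ⟨a, ha, b, hb, rfl⟩ := Submodule.mem_sup.1 hx
    rw [map_add]; exact Submodule.add_mem_sup (hP a ha) (hQ b hb)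
  · refine le_antisymm (Submodule.span_le.2 fun x hx => ?_) (sup_le ?_ ?_)
    · obtain ⟨a, ha, b, hb, rfl⟩ := Submodule.mem_sup.1 hx
      exact Submodule.add_mem_sup (hspan ▸ Submodule.subset_span ha) (hspan' ▸ Submodule.subset_span hb)
    · rw [← hspan]; exact Submodule.span_mono (le_sup_left : M ≤ M ⊔ M')
    · rw [← hspan']; exact Submodule.span_mono (le_sup_right : M' ≤ M ⊔ M')
  · push_cast
    rw [mul_div_mul_left _ _ (by exact_mod_cast hs'.ne'), hμ]
  · rw [latImg_sup hτ, latImg_mul_eq hτ M r s he, pPow_sup, show s' * s = s * s' from mul_comm _ _,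
      latImg_mul_eq hτ M' r' s' he']
    congr 2
    have h : (r : ℚ) / s = (r' : ℚ) / s' := hμ.trans hμ'.symm
    rw [div_eq_div_iff (by exact_mod_cast hs.ne') (by exact_mod_cast hs'.ne')] at h
    have h' : r * (s' : ℤ) = r' * (s : ℤ) := by exact_mod_cast h
    linarith

theorem isoPart_bot (μ : ℚ) : IsoPart F μ ⊥ := by
  refine ⟨fun x hx => ?_, ⊥, μ.num, μ.den, Submodule.fg_bot, ?_, μ.pos, Rat.num_div_den μ, ?_⟩
  · rw [Submodule.mem_bot] at hx ⊢; rw [hx, map_zero]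
  · simp
  · refine le_antisymm (latImg_le_iff.2 fun x hx => ?_) (fun x hx => ?_)
    · rw [(Submodule.mem_bot _).1 hx, iterate_map_zero']; exact zero_mem _
    · rw [mem_pPow, Submodule.mem_bot, smul_eq_zero] at hx
      rw [hx.resolve_left (zpow_p_ne_zero _)]; exact zero_mem _

theorem isoPart_slopePart (hτ : Good τ) (μ : ℚ) : IsoPart F μ (Isoc.slopePart F μ) := by
  haveI : IsNoetherian K(p, k) N := inferInstance
  obtain ⟨P, hP, hmax⟩ := (wellFounded_gt (α := Submodule K(p, k) N)).has_min {P | IsoPart F μ P}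
    ⟨⊥, isoPart_bot μ⟩
  have hgreat : ∀ Q, IsoPart F μ Q → Q ≤ P := fun Q hQ => by
    by_contra hle
    exact hmax (P ⊔ Q) (hP.sup hτ hQ) (lt_of_le_not_ge le_sup_left fun h => hle (le_sup_right.trans h))
  have : Isoc.slopePart F μ = P :=
    le_antisymm (sSup_le fun Q hQ => hgreat Q ((isoPart_iff hτ μ Q).2 hQ))
      (le_sSup ((isoPart_iff hτ μ P).1 hP))
  rwa [this]

theorem IsoPart.le_slopePart (hτ : Good τ) {μ : ℚ} {P : Submodule K(p, k) N} (h : IsoPart F μ P) :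
    P ≤ Isoc.slopePart F μ := le_sSup ((isoPart_iff hτ μ P).1 h)

theorem isIsoclinic_restrict (hτ : Good τ) (hF : Function.Bijective F) {μ : ℚ}
    (hμ : Isoc.IsIsoclinic F μ) {P : Submodule K(p, k) N} (hP : ∀ x ∈ P, F x ∈ P) :
    Isoc.IsIsoclinic (F.restrict hP) μ := by
  obtain ⟨M, hM, r, s, hs, hμ', he⟩ := hμ
  haveI := hM
  refine ⟨M.comap (P.subtype.restrictScalars (WittVector p k)), ⟨?_, ?_⟩, r, s, hs, hμ', ?_⟩
  · refine Submodule.fg_of_fg_map_injective (P.subtype.restrictScalars (WittVector p k))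
      Subtype.val_injective ?_
    haveI : IsNoetherian (WittVector p k) M := isNoetherian_of_isNoetherianRing_of_finite _ _
    rw [Submodule.map_comap_eq]
    exact Submodule.FG.of_le_of_isNoetherian inf_le_right
  · refine eq_top_iff.2 fun x _ => ?_
    obtain ⟨j, hj⟩ := exists_mem_pPow (p := p) (k := k) M (x : N)
    have h := mem_pPow.1 (hj j le_rfl)
    rw [← one_smul K(p, k) x, show (1 : K(p, k)) = (p : K(p, k)) ^ j * (p : K(p, k)) ^ (-j) by
      rw [← zpow_add₀ p_ne_zero, add_neg_cancel, zpow_zero], mul_smul]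
    exact Submodule.smul_mem _ _ (Submodule.subset_span (show ((p : K(p, k)) ^ (-j)) • x ∈ _ from h))
  · ext x
    rw [mem_latImg hτ, mem_pPow]
    change _ ↔ ((p : K(p, k)) ^ (-r)) • (x : N) ∈ M
    rw [← mem_pPow, ← he, mem_latImg hτ]
    constructor
    · rintro ⟨y, hy, rfl⟩
      exact ⟨y, hy, (coe_iterate_restrict hP s y).symm⟩
    · rintro ⟨y, hy, h⟩
      exact ⟨⟨y, mem_of_iterate_mem hτ hF hP (n := s) (h ▸ x.2)⟩, hy,
        Subtype.ext (by rw [coe_iterate_restrict]; exact h)⟩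

end Sub

theorem isIsoclinic_mapQ {N : Type v} [AddCommGroup N] [Module (WittVector p k) N] [Module K(p, k) N]
    [IsScalarTower (WittVector p k) K(p, k) N] {F : N →ₛₗ[τ] N} (hτ : Good τ) {μ : ℚ}
    (hμ : Isoc.IsIsoclinic F μ) (P : Submodule K(p, k) N) (hP : P ≤ P.comap F) :
    Isoc.IsIsoclinic (P.mapQ P F hP) μ := by
  obtain ⟨M, hM, r, s, hs, hμ', he⟩ := hμ
  refine ⟨M.map (P.mkQ.restrictScalars (WittVector p k)), ⟨hM.fg.map _, ?_⟩, r, s, hs, hμ', ?_⟩
  · rw [show ((M.map (P.mkQ.restrictScalars (WittVector p k)) : Submodule (WittVector p k) (N ⧸ P)) : Set (N ⧸ P))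
      = P.mkQ '' (M : Set N) from rfl, ← Submodule.map_span, hM.span_eq_top, Submodule.map_top,
      Submodule.range_mkQ]
  · rw [← map_latImg P.mkQ hτ (F₁ := F) (fun _ => rfl), he, map_pPow]

end Groth.Agent.Isoc53
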