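import Groth.Agent.Isoc53.Scalar
import Groth.Agent.CAlg8.SemilinearLang
import Mathlib

/-!
Frobenius fixed bases over Witt vectors of an algebraically closed field.
-/

set_option autoImplicit false
set_option linter.unusedSectionVars false
universe u v w
open scoped Isocrystal Matrix

namespace Groth.Agent.Isoc53

variable {p : ℕ} [Fact p.Prime] {k : Type u} [Field k] [CharP k p] [PerfectRing k p]

theorem exists_successive {h : ℕ} (D : (Fin h → WittVector p k) → (Fin h → WittVector p k))
    (hadd : ∀ x y, D (x + y) = D x + D y)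
    (hp : ∀ (m : ℕ) (x : Fin h → WittVector p k),
      D (((p : WittVector p k) ^ m) • x) = ((p : WittVector p k) ^ m) • D x)
    (hmod : ∀ e : Fin h → WittVector p k, ∃ y, ∀ i, (p : WittVector p k) ∣ e i - D y i)
    (e : Fin h → WittVector p k) : ∃ y, D y = e := by
  choose y₁ hy₁ using hmod
  choose z hz using hy₁
  -- residual sequence
  let r : ℕ → (Fin h → WittVector p k) := fun n => Nat.rec e (fun _ rn => z rn) n
  let Y : ℕ → (Fin h → WittVector p k) := fun n => ∑ m ∈ Finset.range n, ((p : WittVector p k) ^ m) • y₁ (r m)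
  have hD0 : D 0 = 0 := by have := hadd 0 0; rw [add_zero] at this; exact left_eq_add.1 this
  have hres : ∀ n, e - D (Y n) = ((p : WittVector p k) ^ n) • r n := by
    intro n
    induction n with
    | zero => simp [Y, r, hD0]
    | succ n ih =>
      have e1 : Y (n + 1) = Y n + ((p : WittVector p k) ^ n) • y₁ (r n) := Finset.sum_range_succ _ _
      have e2 : r n - D (y₁ (r n)) = (p : WittVector p k) • r (n + 1) :=
        funext fun i => by rw [Pi.sub_apply, hz (r n) i]; rfl
      rw [e1, hadd, hp, ← sub_sub, ih, ← smul_sub, e2, smul_smul, ← pow_succ]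
  have hcoord : ∀ i, ∃ l : WittVector p k, ∀ n, (p : WittVector p k) ^ n ∣ Y n i - l := by
    intro i
    obtain ⟨l, hl⟩ := IsPrecomplete.prec (I := Ideal.span {(p : WittVector p k)}) inferInstance
      (f := fun n => Y n i) (fun {m n} hmn => by
        rw [SModEq.sub_mem, smul_eq_mul, Ideal.mul_top, Ideal.span_singleton_pow,
          Ideal.mem_span_singleton]
        obtain ⟨d, rfl⟩ := Nat.exists_eq_add_of_le hmn
        simp only [Y, Finset.sum_apply, Finset.sum_range_add, Pi.smul_apply, smul_eq_mul, sub_add_cancel_left]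
        rw [dvd_neg]
        exact Finset.dvd_sum fun j _ => Dvd.dvd.mul_right (pow_dvd_pow _ (Nat.le_add_right m j)) _)
    refine ⟨l, fun n => ?_⟩
    have := SModEq.sub_mem.1 (hl n)
    rwa [smul_eq_mul, Ideal.mul_top, Ideal.span_singleton_pow, Ideal.mem_span_singleton] at this
  choose l hl using hcoord
  refine ⟨l, (funext fun i => ?_)⟩
  rw [← sub_eq_zero]
  refine IsHausdorff.haus (I := Ideal.span {(p : WittVector p k)}) inferInstance _ fun n => ?_
  rw [SModEq.zero, smul_eq_mul, Ideal.mul_top, Ideal.span_singleton_pow, Ideal.mem_span_singleton]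
  choose c hc using fun i => hl i n
  have hc' : l = Y n + ((p : WittVector p k) ^ n) • (-c) := funext fun j => by
    rw [Pi.add_apply, Pi.smul_apply, Pi.neg_apply, smul_eq_mul]
    linear_combination -(hc j)
  refine ⟨D (-c) i - r n i, ?_⟩
  have h1 := congrFun (hres n) i
  rw [Pi.sub_apply, Pi.smul_apply, smul_eq_mul] at h1
  rw [hc', hadd, hp, Pi.add_apply, Pi.smul_apply, smul_eq_mul]
  linear_combination -h1

theorem coeff_zero_iterate_frobenius (n : ℕ) (w : WittVector p k) :
    ((⇑(WittVector.frobenius (p := p) (R := k)))^[n] w).coeff 0 = w.coeff 0 ^ p ^ n := by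
  induction n with
  | zero => simp
  | succ n ih =>
    rw [Function.iterate_succ_apply', WittVector.coeff_frobenius_charP, ih, ← pow_mul, ← pow_succ]

theorem exists_fixed_matrix [IsAlgClosed k] {h : ℕ} (n : ℕ) (hn : 1 ≤ n)
    (A : Matrix (Fin h) (Fin h) (WittVector p k)) (hA : IsUnit A.det) :
    ∃ X : Matrix (Fin h) (Fin h) (WittVector p k), IsUnit X.det ∧
      A * X.map ⇑((WittVector.frobenius (p := p) (R := k)) ^ n) = X := by
  classical
  set σ := (WittVector.frobenius (p := p) (R := k)) ^ n with hσ
  set A₀ : Matrix (Fin h) (Fin h) k := (WittVector.constantCoeff (p := p) (R := k)).mapMatrix A with hA₀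
  have hA₀det : IsUnit A₀.det := by
    rw [hA₀, ← RingHom.map_det]
    exact hA.map _
  have hA₀inj : Function.Injective A₀.mulVec :=
    Matrix.mulVec_injective_iff_isUnit.2 ((Matrix.isUnit_iff_isUnit_det A₀).2 hA₀det)
  let φ : (Fin h → k) →ₛₗ[iterateFrobenius k p n] (Fin h → k) :=
    { toFun := fun x => A₀ *ᵥ fun i => iterateFrobenius k p n (x i)
      map_add' := fun x y => by
        rw [← Matrix.mulVec_add]; congr 1; funext i; exact map_add _ _ _
      map_smul' := fun c x => by
        rw [← Matrix.mulVec_smul]; congr 1; funext i; exact map_mul _ _ _ }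
  have hφ : Function.Bijective φ := by
    refine ⟨fun x y hxy => funext fun i => (iterateFrobenius k p n).injective (congrFun (hA₀inj hxy) i), fun y => ?_⟩
    obtain ⟨z, hz⟩ := Matrix.mulVec_surjective_iff_isUnit.2 ((Matrix.isUnit_iff_isUnit_det A₀).2 hA₀det) y
    choose x hx using fun i => (bijective_iterateFrobenius (R := k) p n).2 (z i)
    exact ⟨x, by change A₀ *ᵥ (fun i => iterateFrobenius k p n (x i)) = y; rw [funext hx, hz]⟩
  let D : (Fin h → WittVector p k) → (Fin h → WittVector p k) := fun x => A *ᵥ (fun i => σ (x i)) - x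
  have hσcoeff : ∀ w : WittVector p k, (σ w).coeff 0 = iterateFrobenius k p n (w.coeff 0) := fun w => by
    rw [hσ, RingHom.coe_pow, coeff_zero_iterate_frobenius, iterateFrobenius_def]
  have hDmod : ∀ (x : Fin h → WittVector p k) (i : Fin h),
      (D x i).coeff 0 = φ (fun j => (x j).coeff 0) i - (x i).coeff 0 := by
    intro x i
    change WittVector.constantCoeff ((A *ᵥ fun i => σ (x i)) i - x i) = _
    rw [map_sub, RingHom.map_mulVec]
    congr 1
    change _ = (A₀ *ᵥ fun j => iterateFrobenius k p n ((x j).coeff 0)) i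
    congr 1
    funext j
    exact hσcoeff _
  have hDsurj := exists_successive D
    (fun x y => by
      simp only [D]
      rw [show (fun i => σ ((x + y) i)) = (fun i => σ (x i)) + fun i => σ (y i) from
        funext fun i => map_add σ _ _, Matrix.mulVec_add]
      abel)
    (fun m x => by
      simp only [D]
      rw [show (fun i => σ ((((p : WittVector p k) ^ m) • x) i))
        = ((p : WittVector p k) ^ m) • fun i => σ (x i) from funext fun i => by
          rw [Pi.smul_apply, Pi.smul_apply, smul_eq_mul, smul_eq_mul, map_mul, map_pow, map_natCast],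
        Matrix.mulVec_smul, smul_sub])
    (fun e => by
      obtain ⟨y, hy⟩ := CAlg8.SemilinearLang.surjective_sub_id k p n hn (Fin h → k) φ hφ
        (fun i => (e i).coeff 0)
      refine ⟨fun i => WittVector.teichmuller p (y i), fun i => ?_⟩
      rw [← Ideal.mem_span_singleton, WittVector.mem_span_p_iff_coeff_zero_eq_zero]
      change WittVector.constantCoeff (e i - D (fun i => WittVector.teichmuller p (y i)) i) = 0
      rw [map_sub, sub_eq_zero]
      change (e i).coeff 0 = (D (fun i => WittVector.teichmuller p (y i)) i).coeff 0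
      rw [hDmod]
      simp only [WittVector.teichmuller_coeff_zero]
      exact (congrFun hy i).symm)
  have hspan := CAlg8.SemilinearLang.span_fixed_eq_top k p n hn _ (Fin h → k) φ hφ rfl
  obtain ⟨S, hS, hSspan, hSli⟩ := exists_linearIndependent k {v : Fin h → k | φ v = v}
  let b₀ := Module.Basis.mk hSli (by rw [Subtype.range_coe, hSspan, hspan])
  let b := b₀.reindex (b₀.indexEquiv (Pi.basisFun k (Fin h)))
  have hb : ∀ j, φ (b j) = b j := fun j => by
    have : b j ∈ S := by simp [b, b₀]
    exact hS this
  have hcol : ∀ j, ∃ x : Fin h → WittVector p k, D x = 0 ∧ ∀ i, (x i).coeff 0 = b j i := by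
    intro j
    set x₀ : Fin h → WittVector p k := fun i => WittVector.teichmuller p (b j i)
    have hx₀ : ∀ i, (p : WittVector p k) ∣ D x₀ i := fun i => by
      rw [← Ideal.mem_span_singleton, WittVector.mem_span_p_iff_coeff_zero_eq_zero, hDmod]
      simp only [x₀, WittVector.teichmuller_coeff_zero]
      rw [hb j, sub_self]
    choose e he using hx₀
    obtain ⟨y, hy⟩ := hDsurj e
    refine ⟨x₀ - (p : WittVector p k) • y, ?_, fun i => ?_⟩
    · simp only [D] at he hy ⊢
      rw [show (fun i => σ ((x₀ - (p : WittVector p k) • y) i))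
          = (fun i => σ (x₀ i)) - (p : WittVector p k) • fun i => σ (y i) from funext fun i => by
            rw [Pi.sub_apply, Pi.sub_apply, Pi.smul_apply, Pi.smul_apply, smul_eq_mul, smul_eq_mul,
              map_sub, map_mul, map_natCast],
        Matrix.mulVec_sub, Matrix.mulVec_smul, sub_sub_sub_comm, ← smul_sub, hy, sub_eq_zero]
      exact funext fun i => he i
    · change WittVector.constantCoeff (x₀ i - (p : WittVector p k) * y i) = b j i
      rw [map_sub, map_mul, map_natCast, CharP.cast_eq_zero, zero_mul, sub_zero]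
      exact WittVector.teichmuller_coeff_zero p (b j i)
  choose x hx hx0 using hcol
  refine ⟨Matrix.of fun i j => x j i, ?_, ?_⟩
  · refine WittVector.isUnit_of_coeff_zero_ne_zero _ ?_
    change WittVector.constantCoeff (Matrix.of fun i j => x j i).det ≠ 0
    rw [RingHom.map_det, show (WittVector.constantCoeff (p := p) (R := k)).mapMatrix
      (Matrix.of fun i j => x j i) = (Pi.basisFun k (Fin h)).toMatrix b from ?_]
    · haveI := (Pi.basisFun k (Fin h)).invertibleToMatrix b
      exact ((Matrix.isUnit_iff_isUnit_det _).1 (isUnit_of_invertible _)).ne_zero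
    · ext i j
      rw [RingHom.mapMatrix_apply, Matrix.map_apply, Matrix.of_apply, Module.Basis.toMatrix_apply,
        Pi.basisFun_repr]
      exact hx0 j i
  · refine Matrix.ext fun i j => ?_
    have h1 := congrFun (hx j) i
    simp only [D, Pi.sub_apply, Pi.zero_apply, sub_eq_zero] at h1
    rw [Matrix.mul_apply, Matrix.of_apply]
    exact h1

end Groth.Agent.Isoc53
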