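import Groth.Agent.Isoc53.Scalar
import Mathlib

/-!
Lattices in isocrystals, their images and their rescalings.
-/

set_option autoImplicit false
set_option linter.unusedSectionVars false
universe u v w
open scoped Isocrystal Pointwise

namespace Groth.Agent.Isoc53

variable {p : ℕ} [Fact p.Prime] {k : Type u} [Field k] [CharP k p]
variable {N : Type v} [AddCommGroup N] [Module (WittVector p k) N] [Module K(p, k) N]
  [IsScalarTower (WittVector p k) K(p, k) N]

theorem ι_smul (w : WittVector p k) (x : N) : ι p k w • x = w • x := algebraMap_smul K(p, k) w x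

theorem mem_pPow {r : ℤ} {M : Submodule (WittVector p k) N} {x : N} :
    x ∈ Isoc.pPow r M ↔ ((p : K(p, k)) ^ (-r)) • x ∈ M := by
  rw [Isoc.pPow, Submodule.mem_smul_pointwise_iff_exists]
  constructor
  · rintro ⟨y, hy, rfl⟩
    rwa [smul_smul, ← zpow_add₀ p_ne_zero, neg_add_cancel, zpow_zero, one_smul]
  · intro h
    exact ⟨_, h, by rw [smul_smul, ← zpow_add₀ p_ne_zero, add_neg_cancel, zpow_zero, one_smul]⟩

theorem smul_mem_pPow_iff {r j : ℤ} {M : Submodule (WittVector p k) N} {x : N} :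
    ((p : K(p, k)) ^ j) • x ∈ Isoc.pPow r M ↔ x ∈ Isoc.pPow (r - j) M := by
  rw [mem_pPow, mem_pPow, smul_smul, ← zpow_add₀ p_ne_zero]
  ring_nf

theorem pPow_zero (M : Submodule (WittVector p k) N) : Isoc.pPow 0 M = M := by
  ext x; rw [mem_pPow, neg_zero, zpow_zero, one_smul]

theorem pPow_pPow (r s : ℤ) (M : Submodule (WittVector p k) N) :
    Isoc.pPow r (Isoc.pPow s M) = Isoc.pPow (r + s) M := by
  ext x
  rw [mem_pPow, mem_pPow, mem_pPow, smul_smul, ← zpow_add₀ p_ne_zero]
  ring_nf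

theorem pPow_mono (r : ℤ) {M M' : Submodule (WittVector p k) N} (h : M ≤ M') :
    Isoc.pPow r M ≤ Isoc.pPow r M' := fun x hx => mem_pPow.2 (h (mem_pPow.1 hx))

theorem pPow_le_pPow {r s : ℤ} (h : r ≤ s) (M : Submodule (WittVector p k) N) :
    Isoc.pPow s M ≤ Isoc.pPow r M := by
  intro x hx
  rw [mem_pPow] at hx ⊢
  obtain ⟨n, hn⟩ : ∃ n : ℕ, -r = (n : ℤ) + -s := ⟨(s - r).toNat, by omega⟩
  have hp : (p : K(p, k)) ^ n = ι p k ((p : WittVector p k) ^ n) := by rw [map_pow, map_natCast]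
  rw [hn, zpow_add₀ p_ne_zero, zpow_natCast, mul_smul, hp, ι_smul]
  exact M.smul_mem _ hx

theorem pPow_le_iff {r : ℤ} {M M' : Submodule (WittVector p k) N} :
    Isoc.pPow r M ≤ M' ↔ M ≤ Isoc.pPow (-r) M' := by
  constructor
  · intro h
    have := pPow_mono (-r) h
    rwa [pPow_pPow, neg_add_cancel, pPow_zero] at this
  · intro h
    have := pPow_mono r h
    rwa [pPow_pPow, add_neg_cancel, pPow_zero] at this

theorem pPow_le_pPow_iff {r s : ℤ} {M M' : Submodule (WittVector p k) N} :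
    Isoc.pPow r M ≤ Isoc.pPow s M' ↔ M ≤ Isoc.pPow (s - r) M' := by
  rw [pPow_le_iff, pPow_pPow, show -r + s = s - r by ring]

theorem pPow_sup (r : ℤ) (M M' : Submodule (WittVector p k) N) :
    Isoc.pPow r (M ⊔ M') = Isoc.pPow r M ⊔ Isoc.pPow r M' := Submodule.smul_sup' _ _ _

section Img

variable {τ : K(p, k) →+* K(p, k)} {F : N →ₛₗ[τ] N}

theorem image_mem_latImg {s : ℕ} {M : Submodule (WittVector p k) N} {x : N} (hx : x ∈ M) :
    (⇑F)^[s] x ∈ Isoc.latImg F s M := Submodule.subset_span ⟨x, hx, rfl⟩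

theorem latImg_le_iff {s : ℕ} {M M' : Submodule (WittVector p k) N} :
    Isoc.latImg F s M ≤ M' ↔ ∀ x ∈ M, (⇑F)^[s] x ∈ M' := by
  rw [Isoc.latImg, Submodule.span_le]
  exact Set.image_subset_iff

theorem iterate_map_smul (n : ℕ) (c : K(p, k)) (x : N) :
    (⇑F)^[n] (c • x) = (τ ^ n) c • (⇑F)^[n] x := (Isoc.iter F n).map_smulₛₗ c x

theorem iterate_map_add' (n : ℕ) (x y : N) : (⇑F)^[n] (x + y) = (⇑F)^[n] x + (⇑F)^[n] y :=
  (Isoc.iter F n).map_add x y

theorem iterate_map_zero' (n : ℕ) : (⇑F)^[n] 0 = 0 := (Isoc.iter F n).map_zero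

theorem iterate_zpow_smul (n : ℕ) (r : ℤ) (x : N) :
    (⇑F)^[n] ((p : K(p, k)) ^ r • x) = (p : K(p, k)) ^ r • (⇑F)^[n] x := by
  rw [iterate_map_smul, map_zpow_p]

theorem latImg_mono (s : ℕ) {M M' : Submodule (WittVector p k) N} (h : M ≤ M') :
    Isoc.latImg F s M ≤ Isoc.latImg F s M' := latImg_le_iff.2 fun _ hx => image_mem_latImg (h hx)

theorem latImg_zero (M : Submodule (WittVector p k) N) : Isoc.latImg F 0 M = M := by
  rw [Isoc.latImg, Function.iterate_zero, Set.image_id, Submodule.span_eq]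

variable [PerfectRing k p] (hτ : Good τ)
include hτ

theorem iterate_map_smul_witt (n : ℕ) (w : WittVector p k) (x : N) :
    ∃ w' : WittVector p k, (⇑F)^[n] (w • x) = w' • (⇑F)^[n] x := by
  obtain ⟨w', hw'⟩ := (hτ.pow n).maps w
  exact ⟨w', by rw [← ι_smul w, iterate_map_smul, hw', ι_smul]⟩

theorem mem_latImg {s : ℕ} {M : Submodule (WittVector p k) N} {x : N} :
    x ∈ Isoc.latImg F s M ↔ ∃ y ∈ M, (⇑F)^[s] y = x := by
  refine ⟨fun hx => ?_, fun ⟨y, hy, h⟩ => h ▸ image_mem_latImg hy⟩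
  induction hx using Submodule.span_induction with
  | mem x hx => exact hx
  | zero => exact ⟨0, zero_mem M, iterate_map_zero' s⟩
  | add a b _ _ ha hb =>
    obtain ⟨a', ha', rfl⟩ := ha; obtain ⟨b', hb', rfl⟩ := hb
    exact ⟨a' + b', add_mem ha' hb', iterate_map_add' s a' b'⟩
  | smul c a _ ha =>
    obtain ⟨a', ha', rfl⟩ := ha
    obtain ⟨c', hc'⟩ := (hτ.pow s).surj c
    exact ⟨c' • a', M.smul_mem c' ha', by rw [← ι_smul c', iterate_map_smul, hc', ι_smul]⟩

theorem latImg_latImg (m n : ℕ) (M : Submodule (WittVector p k) N) :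
    Isoc.latImg F m (Isoc.latImg F n M) = Isoc.latImg F (m + n) M := by
  refine le_antisymm (latImg_le_iff.2 fun x hx => ?_) (latImg_le_iff.2 fun x hx => ?_)
  · obtain ⟨y, hy, rfl⟩ := (mem_latImg hτ).1 hx
    rw [← Function.iterate_add_apply]
    exact image_mem_latImg hy
  · rw [Function.iterate_add_apply]
    exact image_mem_latImg (image_mem_latImg hx)

theorem latImg_pPow (s : ℕ) (r : ℤ) (M : Submodule (WittVector p k) N) :
    Isoc.latImg F s (Isoc.pPow r M) = Isoc.pPow r (Isoc.latImg F s M) := by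
  ext x
  rw [mem_latImg hτ, mem_pPow, mem_latImg hτ]
  constructor
  · rintro ⟨y, hy, rfl⟩
    exact ⟨_, mem_pPow.1 hy, iterate_zpow_smul s (-r) y⟩
  · rintro ⟨y, hy, h⟩
    refine ⟨(p : K(p, k)) ^ r • y, mem_pPow.2 ?_, ?_⟩
    · rwa [smul_smul, ← zpow_add₀ p_ne_zero, neg_add_cancel, zpow_zero, one_smul]
    · rw [iterate_zpow_smul, h, smul_smul, ← zpow_add₀ p_ne_zero, add_neg_cancel, zpow_zero, one_smul]

theorem latImg_le_latImg_iff (hF : Function.Injective F) {s : ℕ} {M M' : Submodule (WittVector p k) N} :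
    Isoc.latImg F s M ≤ Isoc.latImg F s M' ↔ M ≤ M' := by
  refine ⟨fun h x hx => ?_, latImg_mono s⟩
  obtain ⟨y, hy, hxy⟩ := (mem_latImg hτ).1 (h (image_mem_latImg hx))
  exact hF.iterate s hxy ▸ hy

theorem latImg_span (s : ℕ) (S : Set N) :
    Isoc.latImg F s (Submodule.span (WittVector p k) S)
      = Submodule.span (WittVector p k) ((⇑F)^[s] '' S) := by
  refine le_antisymm (latImg_le_iff.2 fun x hx => ?_) (Submodule.span_le.2 ?_)
  · induction hx using Submodule.span_induction with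
    | mem x hx => exact Submodule.subset_span ⟨x, hx, rfl⟩
    | zero => rw [iterate_map_zero']; exact zero_mem _
    | add a b _ _ ha hb => rw [iterate_map_add']; exact add_mem ha hb
    | smul c a _ ha =>
      obtain ⟨c', hc'⟩ := iterate_map_smul_witt (F := F) hτ s c a
      rw [hc']; exact Submodule.smul_mem _ _ ha
  · rintro _ ⟨x, hx, rfl⟩
    exact image_mem_latImg (Submodule.subset_span hx)

theorem latImg_sup (s : ℕ) (M M' : Submodule (WittVector p k) N) :
    Isoc.latImg F s (M ⊔ M') = Isoc.latImg F s M ⊔ Isoc.latImg F s M' := by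
  refine le_antisymm (latImg_le_iff.2 fun x hx => ?_)
    (sup_le (latImg_mono s le_sup_left) (latImg_mono s le_sup_right))
  obtain ⟨a, ha, b, hb, rfl⟩ := Submodule.mem_sup.1 hx
  rw [iterate_map_add']
  exact Submodule.add_mem_sup (image_mem_latImg ha) (image_mem_latImg hb)

theorem isLattice_latImg (hF : Function.Bijective F) (s : ℕ) (M : Submodule (WittVector p k) N)
    [hM : M.IsLattice K(p, k)] : (Isoc.latImg F s M).IsLattice K(p, k) where
  fg := by
    classical
    obtain ⟨S, hS⟩ := hM.fg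
    exact ⟨S.image (⇑F)^[s], by rw [Finset.coe_image, ← latImg_span hτ, hS]⟩
  span_eq_top := by
    rw [eq_top_iff]
    rintro x -
    obtain ⟨y, rfl⟩ := (hF.iterate s).2 x
    have hy : y ∈ Submodule.span K(p, k) (M : Set N) := by rw [hM.span_eq_top]; trivial
    induction hy using Submodule.span_induction with
    | mem y hy => exact Submodule.subset_span (image_mem_latImg hy)
    | zero => rw [iterate_map_zero']; exact zero_mem _
    | add a b _ _ ha hb => rw [iterate_map_add']; exact add_mem ha hb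
    | smul c a _ ha => rw [iterate_map_smul]; exact Submodule.smul_mem _ _ ha

end Img

theorem isLattice_pPow (r : ℤ) (M : Submodule (WittVector p k) N) [hM : M.IsLattice K(p, k)] :
    (Isoc.pPow r M).IsLattice K(p, k) :=
  inferInstanceAs ((Units.mk0 _ (zpow_p_ne_zero (p := p) (k := k) r) • M).IsLattice K(p, k))

variable [PerfectRing k p]

theorem exists_mem_pPow (M : Submodule (WittVector p k) N) [hM : M.IsLattice K(p, k)] (x : N) :
    ∃ j : ℤ, ∀ i : ℤ, i ≤ j → x ∈ Isoc.pPow i M := by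
  have hx : x ∈ Submodule.span K(p, k) (M : Set N) := by rw [hM.span_eq_top]; trivial
  induction hx using Submodule.span_induction with
  | mem y hy =>
    exact ⟨0, fun i hi => pPow_le_pPow hi M (by rwa [pPow_zero])⟩
  | zero => exact ⟨0, fun i _ => zero_mem _⟩
  | add a b _ _ ha hb =>
    obtain ⟨ja, ha⟩ := ha; obtain ⟨jb, hb⟩ := hb
    exact ⟨min ja jb, fun i hi => add_mem (ha i (hi.trans (min_le_left _ _))) (hb i (hi.trans (min_le_right _ _)))⟩
  | smul c a _ ha =>
    obtain ⟨ja, ha⟩ := ha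
    obtain ⟨jc, hc⟩ := exists_zpow_mul_isInt c
    refine ⟨ja - jc, fun i hi => ?_⟩
    have h := ha (i + jc) (by omega)
    obtain ⟨w, hw⟩ := hc jc le_rfl
    rw [mem_pPow] at h ⊢
    rw [smul_smul, show (p : K(p, k)) ^ (-i) * c = ι p k w * (p : K(p, k)) ^ (-(i + jc)) by
      rw [hw, mul_right_comm, ← zpow_add₀ p_ne_zero, add_neg_cancel_comm_assoc_aux], mul_smul, ι_smul]
    exact M.smul_mem w h
where
  add_neg_cancel_comm_assoc_aux {i jc : ℤ} : jc + -(i + jc) = -i := by ring

theorem exists_le_pPow (M M' : Submodule (WittVector p k) N) [hM : M.IsLattice K(p, k)]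
    [M'.IsLattice K(p, k)] : ∃ j : ℤ, M ≤ Isoc.pPow j M' := by
  classical
  obtain ⟨S, hS⟩ := hM.fg
  choose j hj using exists_mem_pPow (p := p) (k := k) M'
  obtain ⟨j₀, hj₀⟩ : ∃ j₀ : ℤ, ∀ x ∈ S, j₀ ≤ j x := by
    obtain ⟨b, hb⟩ := (S.image j).bddBelow
    exact ⟨b, fun x hx => hb (Finset.mem_coe.2 (Finset.mem_image_of_mem j hx))⟩
  exact ⟨j₀, hS ▸ Submodule.span_le.2 fun x hx => hj x j₀ (hj₀ x hx)⟩

/-- A lattice has an `L`-basis spanning it over `W`. -/
theorem exists_basis [Module.Finite K(p, k) N] (M : Submodule (WittVector p k) N) [M.IsLattice K(p, k)] :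
    ∃ (n : ℕ) (b : Module.Basis (Fin n) K(p, k) N), M = Submodule.span (WittVector p k) (Set.range b) := by
  classical
  let b₀ := Module.Free.chooseBasis (WittVector p k) M
  let b₁ := b₀.extendOfIsLattice K(p, k)
  haveI : Fintype (Module.Free.ChooseBasisIndex (WittVector p k) M) := inferInstance
  refine ⟨_, b₁.reindex (Fintype.equivFin _), ?_⟩
  rw [Module.Basis.range_reindex]
  have : (b₁ : _ → N) = M.subtype ∘ b₀ := funext fun i => b₀.extendOfIsLattice_apply K(p, k) i
  rw [this, Set.range_comp, ← Submodule.map_span, b₀.span_eq, Submodule.map_top, Submodule.range_subtype]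

theorem mem_span_basis_iff {ι' : Type w} [Fintype ι'] (b : Module.Basis ι' K(p, k) N) {x : N} :
    x ∈ Submodule.span (WittVector p k) (Set.range b) ↔ ∀ i, IsInt (b.repr x i) := by
  classical
  constructor
  · intro hx
    obtain ⟨c, rfl⟩ := (Submodule.mem_span_range_iff_exists_fun (WittVector p k)).1 hx
    intro i
    refine ⟨c i, ?_⟩
    rw [show (∑ j, c j • b j) = ∑ j, ι p k (c j) • b j from
      Finset.sum_congr rfl fun j _ => (ι_smul _ _).symm, b.repr_sum_self]
  · intro h
    choose c hc using h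
    rw [← b.sum_repr x]
    refine sum_mem fun i _ => ?_
    rw [← hc i, ι_smul]
    exact Submodule.smul_mem _ _ (Submodule.subset_span ⟨i, rfl⟩)

theorem eq_zero_of_forall_mem_pPow [Module.Finite K(p, k) N] (M : Submodule (WittVector p k) N)
    [M.IsLattice K(p, k)] {x : N} (h : ∀ n : ℕ, x ∈ Isoc.pPow (n : ℤ) M) : x = 0 := by
  obtain ⟨m, b, hb⟩ := exists_basis (p := p) (k := k) M
  apply b.repr.map_eq_zero_iff.1
  ext i
  rw [Finsupp.coe_zero, Pi.zero_apply]
  by_contra hi
  obtain ⟨r, hr⟩ := exists_isOrdP hi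
  have hx := h (r + 1).toNat
  rw [mem_pPow, hb, mem_span_basis_iff] at hx
  have := hx i
  rw [map_smul, Finsupp.smul_apply, smul_eq_mul, isInt_zpow_mul_iff hr] at this
  omega

theorem isLattice_span_basis {ι' : Type w} [Fintype ι'] (b : Module.Basis ι' K(p, k) N) :
    (Submodule.span (WittVector p k) (Set.range b)).IsLattice K(p, k) where
  fg := Submodule.fg_span (Set.finite_range b)
  span_eq_top := by rw [Submodule.span_span_of_tower, b.span_eq]

theorem exists_lattice [Module.Finite K(p, k) N] :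
    ∃ M : Submodule (WittVector p k) N, M.IsLattice K(p, k) :=
  ⟨_, isLattice_span_basis (Module.finBasis K(p, k) N)⟩

theorem exists_ne_zero_mem [Nontrivial N] (M : Submodule (WittVector p k) N)
    [hM : M.IsLattice K(p, k)] : ∃ x ∈ M, x ≠ 0 := by
  by_contra h
  push_neg at h
  have h' : Submodule.span K(p, k) (M : Set N) = ⊤ := hM.span_eq_top
  rw [Submodule.span_eq_bot.2 h] at h'
  exact bot_ne_top h'

end Groth.Agent.Isoc53
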