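import Groth.Agent.Isoc53.Decomp
import Mathlib

/-!
The order of the determinant and the slope decomposition.
-/

set_option autoImplicit false
set_option linter.unusedSectionVars false
universe u v w
open scoped Isocrystal

namespace Groth.Agent.Isoc53

theorem det_blockDiag' {R : Type w} [CommRing R] {t : ℕ} {n : Fin t → ℕ}
    (A : ∀ i, Matrix (Fin (n i)) (Fin (n i)) R) :
    (Matrix.blockDiagonal' A).det = ∏ i, (A i).det := by
  rw [(Matrix.blockTriangular_blockDiagonal' A).det_fintype]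
  refine Finset.prod_congr rfl fun i _ => ?_
  let e : Fin (n i) ≃ {a : (j : Fin t) × Fin (n j) // a.1 = i} :=
    { toFun := fun x => ⟨⟨i, x⟩, rfl⟩
      invFun := fun a => a.2 ▸ a.1.2
      left_inv := fun x => rfl
      right_inv := by rintro ⟨⟨j, x⟩, rfl⟩; rfl }
  rw [← Matrix.det_submatrix_equiv_self e]
  congr 1
  ext x y
  exact Matrix.blockDiagonal'_apply_eq A i x y

theorem det_internal {R : Type u} [CommRing R] {M : Type v} [AddCommGroup M] [Module R M] {σ : R →+* R}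
    {G : M →ₛₗ[σ] M} {t : ℕ} {A : Fin t → Submodule R M} (hA : DirectSum.IsInternal A)
    (hst : ∀ i, ∀ x ∈ A i, G x ∈ A i) {n : Fin t → ℕ} (bb : ∀ i, Module.Basis (Fin (n i)) R (A i))
    {m : ℕ} (e : (i : Fin t) × Fin (n i) ≃ Fin m) :
    Matrix.det (Matrix.of fun i j =>
        ((hA.collectedBasis bb).reindex e).repr (G ((hA.collectedBasis bb).reindex e j)) i)
      = ∏ i, Matrix.det (Matrix.of fun a b => (bb i).repr (G.restrict (hst i) (bb i b)) a) := by
  rw [← Matrix.det_submatrix_equiv_self e, ← det_blockDiag']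
  congr 1
  ext ⟨i, a⟩ ⟨j, b⟩
  rw [Matrix.submatrix_apply, Matrix.of_apply, Module.Basis.reindex_apply, Equiv.symm_apply_apply,
    Module.Basis.repr_reindex_apply, Equiv.symm_apply_apply]
  have hm : G (hA.collectedBasis bb ⟨j, b⟩) ∈ A j := hst j _ (hA.collectedBasis_mem bb ⟨j, b⟩)
  rcases eq_or_ne i j with rfl | hij
  · rw [Matrix.blockDiagonal'_apply_eq, hA.collectedBasis_repr_of_mem bb hm, Matrix.of_apply]
    congr 2
    exact Subtype.ext (by simp only [DirectSum.IsInternal.collectedBasis_coe]; rfl)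
  · rw [Matrix.blockDiagonal'_apply_ne _ _ _ hij,
      hA.collectedBasis_repr_of_mem_ne bb hij.symm hm]

variable {p : ℕ} [Fact p.Prime] {k : Type u} [Field k] [CharP k p] [PerfectRing k p]
variable {τ : K(p, k) →+* K(p, k)}
variable {N : Type v} [AddCommGroup N] [Module (WittVector p k) N] [Module K(p, k) N]
  [IsScalarTower (WittVector p k) K(p, k) N] {F : N →ₛₗ[τ] N}

theorem isoclinic_slope_mul (hτ : Good τ) {μ : ℚ} (hμ : Isoc.IsIsoclinic F μ) {h : ℕ}
    (b : Module.Basis (Fin h) K(p, k) N) {d : ℤ} (hd : Isoc.IsOrdP (Isoc.detCoeff b F) d) :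
    μ * h = d := by
  obtain ⟨M, hM, r, s, hs, rfl, he⟩ := hμ
  haveI := hM
  have h1 : ((r * h : ℤ) : ℚ) = (((s : ℤ) * d : ℤ) : ℚ) := by rw [(order_le hτ b hd M he.le).2.1 he]
  push_cast at h1
  rw [div_mul_eq_mul_div, div_eq_iff (by exact_mod_cast hs.ne'), mul_comm (d : ℚ)]
  exact h1

variable [Module.Finite K(p, k) N]

theorem isOrdP_detCoeff_internal (hτ : Good τ) {t : ℕ} {A : Fin t → Submodule K(p, k) N}
    (hA : DirectSum.IsInternal A) (hst : ∀ i, ∀ x ∈ A i, F x ∈ A i) (d : Fin t → ℤ)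
    (hd : ∀ i, Isoc.IsOrdP (Isoc.detCoeff (Module.finBasis K(p, k) (A i)) (F.restrict (hst i))) (d i))
    {h : ℕ} (b : Module.Basis (Fin h) K(p, k) N) : Isoc.IsOrdP (Isoc.detCoeff b F) (∑ i, d i) := by
  classical
  let e := Fintype.equivFin ((i : Fin t) × Fin (Module.finrank K(p, k) (A i)))
  refine isOrdP_detCoeff_congr hτ
    ((hA.collectedBasis fun i => Module.finBasis K(p, k) (A i)).reindex e) b ?_
  rw [Isoc.detCoeff, det_internal hA hst (fun i => Module.finBasis K(p, k) (A i)) e]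
  have : ∀ S : Finset (Fin t), Isoc.IsOrdP (∏ i ∈ S, Matrix.det (Matrix.of fun a b' =>
      (Module.finBasis K(p, k) (A i)).repr (F.restrict (hst i) (Module.finBasis K(p, k) (A i) b')) a))
      (∑ i ∈ S, d i) := by
    intro S
    induction S using Finset.induction_on with
    | empty => rw [Finset.prod_empty, Finset.sum_empty]; exact isOrdP_one
    | insert a S ha ih => rw [Finset.prod_insert ha, Finset.sum_insert ha]; exact IsOrdP.mul (hd a) ih
  exact this Finset.univ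

theorem finsum_mul_newtonMult (hτ : Good τ) (hF : Function.Bijective F) {h : ℕ}
    (b : Module.Basis (Fin h) K(p, k) N) {d : ℤ} (hd : Isoc.IsOrdP (Isoc.detCoeff b F) d) :
    ∑ᶠ μ : ℚ, μ * (Isoc.newtonMult F μ : ℚ) = d := by
  classical
  have hint := isInternal_slopePart (N := N) hτ hF
  have hfin : {μ : ℚ | Isoc.slopePart F μ ≠ ⊥}.Finite :=
    WellFoundedGT.finite_ne_bot_of_iSupIndep hint.submodule_iSupIndep
  let t := hfin.toFinset.card
  let e : Fin t ≃ hfin.toFinset := hfin.toFinset.equivFin.symm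
  let A : Fin t → Submodule K(p, k) N := fun i => Isoc.slopePart F (e i : ℚ)
  have hA : DirectSum.IsInternal A := by
    refine DirectSum.isInternal_submodule_of_iSupIndep_of_iSup_eq_top
      (hint.submodule_iSupIndep.comp (f := fun i => (e i : ℚ))
        (Subtype.val_injective.comp e.injective)) ?_
    rw [eq_top_iff, ← hint.submodule_iSup_eq_top]
    refine iSup_le fun μ => ?_
    by_cases hμ : Isoc.slopePart F μ = ⊥
    · rw [hμ]; exact bot_le
    · refine le_iSup_of_le (e.symm ⟨μ, hfin.mem_toFinset.2 hμ⟩) ?_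
      simp [A]
  have hst : ∀ i, ∀ x ∈ A i, F x ∈ A i := fun i => slopePart_stable hτ _
  choose d' hd' using fun i => exists_isOrdP_detCoeff (Module.finBasis K(p, k) (A i))
    (restrict_bijective hτ hF (hst i))
  have hsum := IsOrdP.unique hd (isOrdP_detCoeff_internal hτ hA hst d' hd' b)
  have hslope : ∀ i, (e i : ℚ) * (Isoc.newtonMult F (e i : ℚ) : ℚ) = d' i := fun i => by
    obtain ⟨_, h1⟩ := (isoPart_iff hτ _ _).1 (isoPart_slopePart (F := F) hτ (e i : ℚ))
    exact isoclinic_slope_mul hτ h1 (Module.finBasis K(p, k) (A i)) (hd' i)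
  rw [finsum_eq_finsetSum_of_support_subset _ (s := hfin.toFinset) (fun μ hμ => ?_),
    ← Finset.sum_coe_sort, ← e.sum_comp, hsum]
  · push_cast
    exact Finset.sum_congr rfl fun i _ => hslope i
  · rw [Set.Finite.coe_toFinset, Set.mem_ofPred_eq]
    intro h0
    refine hμ ?_
    show μ * ((Module.finrank K(p, k) (Isoc.slopePart F μ) : ℕ) : ℚ) = 0
    rw [h0, finrank_bot, Nat.cast_zero, mul_zero]

theorem finrank_mul_eq_of_stdIsoc (hτ : Good τ) {μ : ℚ} (hμ : Isoc.IsIsoclinic F μ)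
    (hF : Function.Bijective F) {P : Submodule K(p, k) N} (hP : ∀ x ∈ P, F x ∈ P) :
    ∃ d : ℤ, μ * Module.finrank K(p, k) P = d := by
  obtain ⟨d, hd⟩ := exists_isOrdP_detCoeff (Module.finBasis K(p, k) P) (restrict_bijective hτ hF hP)
  exact ⟨d, isoclinic_slope_mul hτ (isIsoclinic_restrict hτ hF hμ hP) _ hd⟩

section Std

theorem stdIsoc_single_succ {d : ℤ} {h : ℕ} (i : ℕ) (hi : i + 1 < h) (c : K(p, k)) :
    Isoc.stdIsoc τ d h (Pi.single ⟨i, by omega⟩ c) = Pi.single ⟨i + 1, hi⟩ (τ c) := by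
  obtain ⟨m, rfl⟩ : ∃ m, h = m + 1 := ⟨h - 1, by omega⟩
  have h1 : finRotate (m + 1) ⟨i, by omega⟩ = ⟨i + 1, hi⟩ := finRotate_of_lt (by omega)
  ext j
  rw [Isoc.stdIsoc_apply, Pi.single_apply, Pi.single_apply]
  by_cases hj : (finRotate (m + 1)).symm j = ⟨i, by omega⟩
  · have hj' : j = ⟨i + 1, hi⟩ := by rw [← h1, ← hj, Equiv.apply_symm_apply]
    rw [if_pos hj, if_pos hj', if_neg (by rw [hj']; exact Nat.succ_ne_zero i), one_mul]
  · have hne : ∀ z, finRotate (m + 1) z = j → z = (finRotate (m + 1)).symm j := fun z hz => by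
      rw [← hz, Equiv.symm_apply_apply]
    rw [if_neg hj, map_zero, mul_zero, if_neg]
    exact fun hj' => hj (hne _ (h1.trans hj'.symm)).symm

theorem stdIsoc_single_last {d : ℤ} {h : ℕ} (hh : 0 < h) (c : K(p, k)) :
    Isoc.stdIsoc τ d h (Pi.single ⟨h - 1, by omega⟩ c) = Pi.single ⟨0, hh⟩ ((p : K(p, k)) ^ d * τ c) := by
  obtain ⟨m, rfl⟩ : ∃ m, h = m + 1 := ⟨h - 1, by omega⟩
  have h1 : finRotate (m + 1) ⟨m + 1 - 1, by omega⟩ = ⟨0, hh⟩ := by
    rw [show (⟨m + 1 - 1, by omega⟩ : Fin (m + 1)) = Fin.last m from Fin.ext (by simp), finRotate_last]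
    rfl
  ext j
  rw [Isoc.stdIsoc_apply, Pi.single_apply, Pi.single_apply]
  by_cases hj : (finRotate (m + 1)).symm j = ⟨m + 1 - 1, by omega⟩
  · have hj' : j = ⟨0, hh⟩ := by rw [← h1, ← hj, Equiv.apply_symm_apply]
    rw [if_pos hj, if_pos hj', if_pos (by rw [hj'])]
  · have hne : ∀ z, finRotate (m + 1) z = j → z = (finRotate (m + 1)).symm j := fun z hz => by
      rw [← hz, Equiv.symm_apply_apply]
    rw [if_neg hj, map_zero, mul_zero, if_neg]
    exact fun hj' => hj (hne _ (h1.trans hj'.symm)).symm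

theorem stdIsoc_bijective (hτ : Good τ) (d : ℤ) (h : ℕ) :
    Function.Bijective (Isoc.stdIsoc τ d h) := by
  refine semilinear_bijective hτ ((injective_iff_map_eq_zero _).2 fun x hx => ?_)
  funext i
  have h1 := congrFun hx (finRotate h i)
  rw [Isoc.stdIsoc_apply, Equiv.symm_apply_apply, Pi.zero_apply] at h1
  rcases mul_eq_zero.1 h1 with h2 | h2
  · split_ifs at h2 with hc
    · exact absurd h2 (zpow_p_ne_zero d)
    · exact absurd h2 one_ne_zero
  · exact (map_eq_zero τ).1 h2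

theorem stdIsoc_iterate_zero {d : ℤ} {h : ℕ} (hh : 0 < h) (i : ℕ) (hi : i < h) :
    (⇑(Isoc.stdIsoc τ d h))^[i] (Pi.single ⟨0, hh⟩ 1) = Pi.single ⟨i, hi⟩ 1 := by
  induction i with
  | zero => rfl
  | succ i ih => rw [Function.iterate_succ_apply', ih (by omega), stdIsoc_single_succ i hi, map_one]

theorem stdIsoc_iterate_self {d : ℤ} {h : ℕ} (i : ℕ) (hi : i < h) :
    (⇑(Isoc.stdIsoc τ d h))^[h] (Pi.single ⟨i, hi⟩ 1) = (p : K(p, k)) ^ d • Pi.single ⟨i, hi⟩ 1 := by
  have hh : 0 < h := by omega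
  rw [← stdIsoc_iterate_zero (τ := τ) (d := d) hh i hi, ← Function.iterate_add_apply, add_comm,
    Function.iterate_add_apply]
  have h0 : (⇑(Isoc.stdIsoc τ d h))^[h] (Pi.single ⟨0, hh⟩ 1)
      = (p : K(p, k)) ^ d • Pi.single ⟨0, hh⟩ 1 := by
    have e1 : (⇑(Isoc.stdIsoc τ d h))^[h] (Pi.single ⟨0, hh⟩ 1)
        = Isoc.stdIsoc τ d h ((⇑(Isoc.stdIsoc τ d h))^[h - 1] (Pi.single ⟨0, hh⟩ 1)) := by
      rw [← Function.iterate_succ_apply' (⇑(Isoc.stdIsoc τ d h)) (h - 1), show (h - 1).succ = h by omega]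
    rw [e1, stdIsoc_iterate_zero hh (h - 1) (by omega), stdIsoc_single_last hh, map_one, mul_one,
      ← Pi.single_smul', smul_eq_mul, mul_one]
  rw [h0, iterate_zpow_smul]

/-- The standard isocrystal is isoclinic of slope `d/h`. -/
theorem isIsoclinic_stdIsoc (hτ : Good τ) (d : ℤ) {h : ℕ} (hh : 0 < h) :
    Isoc.IsIsoclinic (Isoc.stdIsoc τ d h) ((d : ℚ) / h) := by
  let b := Pi.basisFun K(p, k) (Fin h)
  refine ⟨Submodule.span (WittVector p k) (Set.range b), isLattice_span_basis b, d, h, hh, rfl, ?_⟩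
  rw [latImg_span hτ, ← Set.range_comp]
  ext x
  rw [mem_pPow]
  have hb : ∀ i : Fin h, (⇑(Isoc.stdIsoc τ d h))^[h] (b i) = (p : K(p, k)) ^ d • b i := fun i => by
    rw [Pi.basisFun_apply]
    exact stdIsoc_iterate_self i.1 i.2
  rw [show ((⇑(Isoc.stdIsoc τ d h))^[h] ∘ ⇑b) = fun i => (p : K(p, k)) ^ d • b i from funext hb,
    Submodule.mem_span_range_iff_exists_fun, Submodule.mem_span_range_iff_exists_fun]
  refine exists_congr fun f => ?_
  constructor
  · rintro rfl
    simp only [smul_comm (_ : WittVector p k) ((p : K(p, k)) ^ d), ← Finset.smul_sum, smul_smul,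
      ← zpow_add₀ (p_ne_zero (p := p) (k := k)), neg_add_cancel, zpow_zero, one_smul]
  · intro hf
    simp only [smul_comm (_ : WittVector p k) ((p : K(p, k)) ^ d), ← Finset.smul_sum, hf, smul_smul,
      ← zpow_add₀ (p_ne_zero (p := p) (k := k)), add_neg_cancel, zpow_zero, one_smul]

theorem stdIsoc_simple (hτ : Good τ) {d : ℤ} {h : ℕ} (hh : 0 < h) (hdh : Int.gcd d h = 1)
    (P : Submodule K(p, k) (Fin h → K(p, k))) (hP : ∀ x ∈ P, Isoc.stdIsoc τ d h x ∈ P) :
    P = ⊥ ∨ P = ⊤ := by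
  obtain ⟨c, hc⟩ := finrank_mul_eq_of_stdIsoc hτ (isIsoclinic_stdIsoc hτ d hh)
    (stdIsoc_bijective hτ d h) hP
  rw [div_mul_eq_mul_div, div_eq_iff (by exact_mod_cast hh.ne')] at hc
  have hc' : d * (Module.finrank K(p, k) P : ℤ) = c * h := by exact_mod_cast hc
  have hdvd : (h : ℤ) ∣ (Module.finrank K(p, k) P : ℤ) :=
    (Int.isCoprime_iff_gcd_eq_one.2 hdh).symm.dvd_of_dvd_mul_left ⟨c, by rw [hc', mul_comm]⟩
  rw [Int.natCast_dvd_natCast] at hdvd
  rcases Nat.eq_zero_or_pos (Module.finrank K(p, k) P) with h0 | h0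
  · exact Or.inl (Submodule.finrank_eq_zero.1 h0)
  · right
    refine Submodule.eq_top_of_finrank_eq (le_antisymm (Submodule.finrank_le P) ?_)
    rw [Module.finrank_fin_fun]
    exact Nat.le_of_dvd h0 hdvd

end Std

end Groth.Agent.Isoc53
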