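import Groth.Prelude.Def_Isoc
import Mathlib

/-!
`p`-adic orders on the fraction field of the Witt vectors and twists preserving them.
-/

set_option autoImplicit false
set_option linter.unusedSectionVars false
universe u v w
open scoped Isocrystal

namespace Groth.Agent.Isoc53

variable {p : ℕ} [Fact p.Prime] {k : Type u} [Field k] [CharP k p]

/-- The canonical map `W → L`. -/
noncomputable abbrev ι (p : ℕ) [Fact p.Prime] (k : Type u) [Field k] [CharP k p] : WittVector p k →+* K(p, k) :=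
  algebraMap (WittVector p k) K(p, k)

theorem p_ne_zero : (p : K(p, k)) ≠ 0 := WittVector.FractionRing.p_nonzero p k

theorem zpow_p_ne_zero (r : ℤ) : (p : K(p, k)) ^ r ≠ 0 := zpow_ne_zero r p_ne_zero

theorem ι_injective : Function.Injective (ι p k) := IsFractionRing.injective _ _

theorem not_isUnit_p : ¬ IsUnit (p : WittVector p k) := (WittVector.irreducible p).not_isUnit

/-- `c` is integral. -/
def IsInt (c : K(p, k)) : Prop := ∃ w : WittVector p k, ι p k w = c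

theorem IsInt.mul {c d : K(p, k)} (hc : IsInt c) (hd : IsInt d) : IsInt (c * d) := by
  obtain ⟨a, rfl⟩ := hc; obtain ⟨b, rfl⟩ := hd
  exact ⟨a * b, map_mul _ _ _⟩

theorem IsInt.add {c d : K(p, k)} (hc : IsInt c) (hd : IsInt d) : IsInt (c + d) := by
  obtain ⟨a, rfl⟩ := hc; obtain ⟨b, rfl⟩ := hd
  exact ⟨a + b, map_add _ _ _⟩

theorem isInt_natPow (n : ℕ) : IsInt ((p : K(p, k)) ^ n) :=
  ⟨(p : WittVector p k) ^ n, by rw [map_pow, map_natCast]⟩

theorem isInt_zero : IsInt (0 : K(p, k)) := ⟨0, map_zero _⟩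

theorem isInt_one : IsInt (1 : K(p, k)) := ⟨1, map_one _⟩

theorem isInt_sum {ι' : Type*} (s : Finset ι') (f : ι' → K(p, k)) (h : ∀ i ∈ s, IsInt (f i)) :
    IsInt (∑ i ∈ s, f i) := by
  classical
  induction s using Finset.induction_on with
  | empty => simpa using isInt_zero
  | insert a s ha ih =>
    rw [Finset.sum_insert ha]
    exact (h a (Finset.mem_insert_self a s)).add (ih fun i hi => h i (Finset.mem_insert_of_mem hi))

theorem isInt_prod {ι' : Type*} (s : Finset ι') (f : ι' → K(p, k)) (h : ∀ i ∈ s, IsInt (f i)) :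
    IsInt (∏ i ∈ s, f i) := by
  classical
  induction s using Finset.induction_on with
  | empty => simpa using isInt_one
  | insert a s ha ih =>
    rw [Finset.prod_insert ha]
    exact (h a (Finset.mem_insert_self a s)).mul (ih fun i hi => h i (Finset.mem_insert_of_mem hi))

theorem isOrdP_one : Isoc.IsOrdP (1 : K(p, k)) 0 := ⟨1, by simp⟩

theorem isOrdP_zpow (r : ℤ) : Isoc.IsOrdP ((p : K(p, k)) ^ r) r := ⟨1, by simp⟩

theorem IsOrdP.mul {c d : K(p, k)} {r s : ℤ} (hc : Isoc.IsOrdP c r) (hd : Isoc.IsOrdP d s) :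
    Isoc.IsOrdP (c * d) (r + s) := by
  obtain ⟨u, rfl⟩ := hc; obtain ⟨u', rfl⟩ := hd
  refine ⟨u * u', ?_⟩
  rw [Units.val_mul, map_mul, zpow_add₀ p_ne_zero]; ring

theorem IsOrdP.inv {c : K(p, k)} {r : ℤ} (hc : Isoc.IsOrdP c r) : Isoc.IsOrdP c⁻¹ (-r) := by
  obtain ⟨u, rfl⟩ := hc
  refine ⟨u⁻¹, ?_⟩
  rw [mul_inv, zpow_neg, map_units_inv]

theorem IsOrdP.ne_zero {c : K(p, k)} {r : ℤ} (hc : Isoc.IsOrdP c r) : c ≠ 0 := by
  obtain ⟨u, rfl⟩ := hc
  exact mul_ne_zero (zpow_p_ne_zero r) ((map_ne_zero_iff _ ι_injective).2 u.ne_zero)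

theorem isOrdP_of_isUnit {c : WittVector p k} (h : IsUnit c) : Isoc.IsOrdP (ι p k c) 0 :=
  ⟨h.unit, by simp⟩

theorem isInt_iff {c : K(p, k)} {r : ℤ} (hc : Isoc.IsOrdP c r) : IsInt c ↔ 0 ≤ r := by
  obtain ⟨u, rfl⟩ := hc
  constructor
  · rintro ⟨w, hw⟩
    by_contra hr
    obtain ⟨n, hn⟩ : ∃ n : ℕ, r = -((n : ℤ) + 1) := ⟨(-r - 1).toNat, by omega⟩
    subst hn
    apply not_isUnit_p (p := p) (k := k)
    refine IsUnit.of_mul_eq_one ((p : WittVector p k) ^ n * w * ↑u⁻¹) ?_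
    apply ι_injective
    rw [map_one, map_mul, map_mul, map_mul, map_pow, map_natCast, hw, map_units_inv,
      zpow_neg, zpow_add₀ p_ne_zero, zpow_natCast, zpow_one]
    have hp := p_ne_zero (p := p) (k := k)
    have hu : (ι p k (u : WittVector p k)) ≠ 0 := (map_ne_zero_iff _ ι_injective).2 u.ne_zero
    field_simp
  · intro hr
    obtain ⟨n, rfl⟩ := Int.eq_ofNat_of_zero_le hr
    exact ⟨(p : WittVector p k) ^ n * u, by rw [map_mul, map_pow, map_natCast, zpow_natCast]⟩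

theorem IsOrdP.unique {c : K(p, k)} {r s : ℤ} (hr : Isoc.IsOrdP c r) (hs : Isoc.IsOrdP c s) : r = s := by
  have h1 := IsOrdP.mul hr (IsOrdP.inv hs)
  have h2 := IsOrdP.mul hs (IsOrdP.inv hr)
  rw [mul_inv_cancel₀ (IsOrdP.ne_zero hr)] at h1 h2
  have a := (isInt_iff h1).1 isInt_one
  have b := (isInt_iff h2).1 isInt_one
  omega

theorem isInt_zpow_mul_iff {c : K(p, k)} {r j : ℤ} (hc : Isoc.IsOrdP c r) :
    IsInt ((p : K(p, k)) ^ j * c) ↔ -j ≤ r := by
  rw [isInt_iff (IsOrdP.mul (isOrdP_zpow j) hc)]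
  omega

variable [PerfectRing k p]

theorem exists_isOrdP {c : K(p, k)} (hc : c ≠ 0) : ∃ r, Isoc.IsOrdP c r := by
  obtain ⟨a, b, hb, rfl⟩ := IsFractionRing.div_surjective (A := WittVector p k) c
  have ha : a ≠ 0 := by rintro rfl; exact hc (by simp)
  obtain ⟨m, u, rfl⟩ := WittVector.exists_eq_pow_p_mul' a ha
  obtain ⟨n, u', rfl⟩ := WittVector.exists_eq_pow_p_mul' b (nonZeroDivisors.ne_zero hb)
  refine ⟨(m : ℤ) + -(n : ℤ), ?_⟩
  rw [div_eq_mul_inv]
  refine IsOrdP.mul ⟨u, ?_⟩ (IsOrdP.inv ⟨u', ?_⟩) <;>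
    rw [map_mul, map_pow, map_natCast, zpow_natCast]

theorem exists_zpow_mul_isInt (c : K(p, k)) : ∃ j : ℤ, ∀ i : ℤ, j ≤ i → IsInt ((p : K(p, k)) ^ i * c) := by
  rcases eq_or_ne c 0 with rfl | hc
  · exact ⟨0, fun i _ => by rw [mul_zero]; exact isInt_zero⟩
  · obtain ⟨r, hr⟩ := exists_isOrdP hc
    exact ⟨-r, fun i hi => (isInt_zpow_mul_iff hr).2 (by omega)⟩

/-- A twist preserving `W`. -/
structure Good (τ : K(p, k) →+* K(p, k)) : Prop where
  maps : ∀ w : WittVector p k, ∃ w', τ (ι p k w) = ι p k w'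
  surj : ∀ w : WittVector p k, ∃ w', τ (ι p k w') = ι p k w

omit [PerfectRing k p] in
theorem map_zpow_p (τ : K(p, k) →+* K(p, k)) (r : ℤ) : τ ((p : K(p, k)) ^ r) = (p : K(p, k)) ^ r := by
  rw [map_zpow₀, map_natCast]

theorem good_frob (a : ℤ) : Good (Isoc.frob p k a) where
  maps w := ⟨_, Isoc.frob_algebraMap p k a w⟩
  surj w := ⟨(WittVector.frobeniusEquiv p k ^ a).symm w, by
    rw [ι, Isoc.frob_algebraMap, RingEquiv.apply_symm_apply]⟩

theorem Good.id : Good (RingHom.id K(p, k)) := ⟨fun w => ⟨w, rfl⟩, fun w => ⟨w, rfl⟩⟩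

theorem Good.pow {τ : K(p, k) →+* K(p, k)} (hτ : Good τ) (n : ℕ) : Good (τ ^ n) := by
  induction n with
  | zero => rw [pow_zero]; exact Good.id
  | succ n ih =>
    refine ⟨fun w => ?_, fun w => ?_⟩
    · obtain ⟨w₁, h₁⟩ := hτ.maps w
      obtain ⟨w₂, h₂⟩ := ih.maps w₁
      exact ⟨w₂, by rw [pow_succ, RingHom.coe_mul, Function.comp_apply, h₁, h₂]⟩
    · obtain ⟨w₁, h₁⟩ := ih.surj w
      obtain ⟨w₂, h₂⟩ := hτ.surj w₁
      exact ⟨w₂, by rw [pow_succ, RingHom.coe_mul, Function.comp_apply, h₂, h₁]⟩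

theorem Good.isOrdP {τ : K(p, k) →+* K(p, k)} (hτ : Good τ) {c : K(p, k)} {r : ℤ}
    (hc : Isoc.IsOrdP c r) : Isoc.IsOrdP (τ c) r := by
  obtain ⟨u, rfl⟩ := hc
  obtain ⟨a, ha⟩ := hτ.maps u
  obtain ⟨b, hb⟩ := hτ.maps (↑u⁻¹ : WittVector p k)
  have : IsUnit a := IsUnit.of_mul_eq_one b (ι_injective (by
    rw [map_mul, ← ha, ← hb, ← map_mul τ, ← map_mul (ι p k), Units.mul_inv, map_one, map_one]))
  exact ⟨this.unit, by rw [map_mul, map_zpow_p, ha, IsUnit.unit_spec]⟩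

theorem Good.bijective {τ : K(p, k) →+* K(p, k)} (hτ : Good τ) : Function.Bijective τ := by
  refine ⟨τ.injective, fun c => ?_⟩
  obtain ⟨a, b, hb, rfl⟩ := IsFractionRing.div_surjective (A := WittVector p k) c
  obtain ⟨a', ha'⟩ := hτ.surj a
  obtain ⟨b', hb'⟩ := hτ.surj b
  exact ⟨ι p k a' / ι p k b', by rw [map_div₀, ha', hb']⟩

end Groth.Agent.Isoc53
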