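import Groth.Agent.Isoc53.OrdDet
import Groth.Agent.Isoc53.Lang
import Mathlib

/-!
Semisimplicity over an algebraically closed field.
-/

set_option autoImplicit false
set_option linter.unusedSectionVars false
universe u v w
open scoped Isocrystal

namespace Groth.Agent.Isoc53

variable {p : ℕ} [Fact p.Prime] {k : Type u} [Field k] [CharP k p] [PerfectRing k p]
variable {N : Type v} [AddCommGroup N] [Module (WittVector p k) N] [Module K(p, k) N]
  [IsScalarTower (WittVector p k) K(p, k) N]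

theorem frob_pow_apply (a : ℤ) (s : ℕ) (w : WittVector p k) :
    (Isoc.frob p k a ^ s) (ι p k w) = ι p k ((WittVector.frobeniusEquiv p k ^ (a * s)) w) := by
  induction s with
  | zero => simp
  | succ s ih =>
    rw [pow_succ', RingHom.coe_mul, Function.comp_apply, ih, ι, Isoc.frob_algebraMap,
      ← RingAut.mul_apply, ← zpow_add]
    push_cast; ring_nf

theorem frobeniusEquiv_natPow (n : ℕ) (w : WittVector p k) :
    (WittVector.frobeniusEquiv p k ^ (n : ℤ)) w
      = ((WittVector.frobenius (p := p) (R := k)) ^ n) w := by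
  rw [zpow_natCast]
  induction n with
  | zero => simp
  | succ n ih => rw [pow_succ', RingAut.mul_apply, ih, pow_succ', RingHom.coe_mul]; rfl

theorem exists_fixed_matrix_zpow [IsAlgClosed k] {h : ℕ} {c : ℤ} (hc : c ≠ 0)
    (A : Matrix (Fin h) (Fin h) (WittVector p k)) (hA : IsUnit A.det) :
    ∃ X : Matrix (Fin h) (Fin h) (WittVector p k), IsUnit X.det ∧
      A * X.map ⇑(WittVector.frobeniusEquiv p k ^ c) = X := by
  obtain ⟨n, rfl | rfl⟩ := c.eq_nat_or_neg
  · obtain ⟨X, hX, hXe⟩ := exists_fixed_matrix n (by omega) A hA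
    refine ⟨X, hX, ?_⟩
    rw [show X.map ⇑(WittVector.frobeniusEquiv p k ^ (n : ℤ))
      = X.map ⇑((WittVector.frobenius (p := p) (R := k)) ^ n) from
        Matrix.ext fun i j => frobeniusEquiv_natPow n _]
    exact hXe
  · set σ := (WittVector.frobenius (p := p) (R := k)) ^ n
    obtain ⟨X, hX, hXe⟩ := exists_fixed_matrix n (by omega) (σ.mapMatrix A⁻¹)
      (by rw [← RingHom.map_det]; exact (Matrix.isUnit_nonsing_inv_det A hA).map _)
    refine ⟨X, hX, ?_⟩
    change σ.mapMatrix A⁻¹ * σ.mapMatrix X = X at hXe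
    rw [← map_mul] at hXe
    have h2 : X.map ⇑(WittVector.frobeniusEquiv p k ^ (-(n : ℤ))) = A⁻¹ * X := by
      conv_lhs => rw [← hXe]
      refine Matrix.ext fun i j => ?_
      rw [RingHom.mapMatrix_apply, Matrix.map_apply, Matrix.map_apply, ← frobeniusEquiv_natPow,
        ← RingAut.mul_apply, ← zpow_add, neg_add_cancel, zpow_zero]
      rfl
    rw [h2, ← Matrix.mul_assoc, Matrix.mul_nonsing_inv A hA, Matrix.one_mul]

variable [Module.Finite K(p, k) N]
variable {τ : K(p, k) →+* K(p, k)}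

theorem exists_lattice_reduced [Nontrivial N] {F : N →ₛₗ[τ] N} (hτ : Good τ)
    (hF : Function.Bijective F) {μ : ℚ} (hμ : Isoc.IsIsoclinic F μ) :
    ∃ M : Submodule (WittVector p k) N, M.IsLattice K(p, k) ∧
      Isoc.latImg F μ.den M = Isoc.pPow μ.num M := by
  obtain ⟨l, hl⟩ := exists_isFirstSlope hτ hF (N := N)
  obtain ⟨M₀, hM₀, r, s, hs, hrs, he⟩ := id hμ
  haveI := hM₀
  have hle : (μ.num : ℝ) / μ.den ≤ l := by
    rw [eq_div_of_latImg_eq hτ hF hl hs he]
    refine le_of_eq ?_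
    have h1 : ((r : ℚ) / s : ℚ) = (μ.num : ℚ) / μ.den := by rw [hrs, Rat.num_div_den]
    have h2 := congrArg (fun q : ℚ => (q : ℝ)) h1
    push_cast at h2
    exact h2.symm
  obtain ⟨M, hM, hMle⟩ := exists_lattice_of_div_le hτ hF hl μ.num μ.den μ.pos hle
  haveI := hM
  obtain ⟨d, hd⟩ := exists_isOrdP_detCoeff (Module.finBasis K(p, k) N) hF
  refine ⟨M, hM, (order_le hτ _ hd M hMle).2.2 ?_⟩
  have h1 := isoclinic_slope_mul hτ hμ _ hd
  rw [← Rat.num_div_den μ, div_mul_eq_mul_div, div_eq_iff (by exact_mod_cast μ.den_ne_zero),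
    mul_comm ((d : ℤ) : ℚ)] at h1
  exact_mod_cast h1

theorem span_fixed_eq_top [IsAlgClosed k] {c : ℤ} (hc : c ≠ 0) (hτ : Good τ)
    (hτc : ∀ w, τ (ι p k w) = ι p k ((WittVector.frobeniusEquiv p k ^ c) w))
    {G : N →ₛₗ[τ] N} (hG : Function.Bijective G)
    (M : Submodule (WittVector p k) N) [M.IsLattice K(p, k)] (hGM : Isoc.latImg G 1 M = M) :
    Submodule.span K(p, k) {v : N | G v = v} = ⊤ := by
  obtain ⟨h, b, hM⟩ := exists_basis (p := p) (k := k) M
  have hent : ∀ i j, IsInt (b.repr (G (b j)) i) := fun i j => by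
    have h1 : G (b j) ∈ M := by
      rw [← hGM]
      exact image_mem_latImg (s := 1) (hM ▸ Submodule.subset_span ⟨j, rfl⟩)
    rw [hM, mem_span_basis_iff] at h1
    exact h1 i
  choose A hA using hent
  have hdet : Isoc.detCoeff b G = ι p k (Matrix.of A).det := by
    rw [Isoc.detCoeff, RingHom.map_det]
    congr 1
    ext i j
    exact (hA i j).symm
  obtain ⟨d, hd⟩ := exists_isOrdP_detCoeff b hG
  have hd0 : d = 0 := by
    have h1 := (order_le hτ b hd M (s := 1) (r := 0) (by rw [hGM, pPow_zero])).2.1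
      (by rw [hGM, pPow_zero])
    simpa using h1.symm
  rw [hd0, hdet] at hd
  obtain ⟨u, hu⟩ := hd
  rw [zpow_zero, one_mul] at hu
  have hAu : IsUnit (Matrix.of A).det := ι_injective hu ▸ u.isUnit
  obtain ⟨X, hX, hXe⟩ := exists_fixed_matrix_zpow hc (Matrix.of A) hAu
  let v : Fin h → N := fun j => ∑ i, ι p k (X i j) • b i
  have hv : ∀ j, G (v j) = v j := by
    intro j
    have hGb : ∀ i, G (b i) = ∑ l, ι p k (A l i) • b l := fun i => by
      conv_lhs => rw [← b.sum_repr (G (b i))]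
      exact Finset.sum_congr rfl fun l _ => by rw [hA]
    simp only [v, map_sum, LinearMap.map_smulₛₗ, hτc, hGb, Finset.smul_sum, smul_smul]
    rw [Finset.sum_comm]
    refine Finset.sum_congr rfl fun l _ => ?_
    rw [← Finset.sum_smul]
    congr 1
    conv_rhs => rw [← hXe]
    rw [Matrix.mul_apply, map_sum]
    exact Finset.sum_congr rfl fun i _ => by rw [map_mul, mul_comm]; rfl
  have hli : IsUnit (b.toMatrix v) := by
    rw [Matrix.isUnit_iff_isUnit_det]
    have : b.toMatrix v = (ι p k).mapMatrix X := by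
      ext i j
      rw [Module.Basis.toMatrix_apply, RingHom.mapMatrix_apply, Matrix.map_apply]
      simp only [v, map_sum, map_smul, Module.Basis.repr_self, Finsupp.smul_single, smul_eq_mul, mul_one,
        Finsupp.finsetSum_apply]
      rw [Finset.sum_eq_single i (fun l _ hl => Finsupp.single_eq_of_ne' hl) (by simp),
        Finsupp.single_eq_same]
    rw [this, ← RingHom.map_det]
    exact hX.map _
  have hspan := ((Module.Basis.is_basis_iff_det b).2 (show IsUnit (b.det v) by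
    rw [Module.Basis.det_apply]; exact (Matrix.isUnit_iff_isUnit_det _).1 hli)).2
  rw [eq_top_iff, ← hspan, Submodule.span_le]
  rintro _ ⟨j, rfl⟩
  exact Submodule.subset_span (hv j)

/-- Vectors killed by `F^h - p^d` with coprime `d`, `h`. -/
def stdVectors (F : N →ₛₗ[τ] N) : Set N :=
  {v | ∃ (d : ℤ) (h : ℕ), 0 < h ∧ Int.gcd d h = 1 ∧ (⇑F)^[h] v = (p : K(p, k)) ^ d • v}

theorem span_stdVectors [IsAlgClosed k] {a : ℤ} (ha : a ≠ 0)
    {F : N →ₛₗ[Isoc.frob p k a] N} (hF : Function.Bijective F) :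
    Submodule.span K(p, k) (stdVectors F) = ⊤ := by
  have hτ := good_frob (p := p) (k := k) a
  rw [eq_top_iff, ← (isInternal_slopePart (N := N) hτ hF).submodule_iSup_eq_top]
  refine iSup_le fun μ => ?_
  obtain ⟨hP, hiso⟩ := (isoPart_iff hτ μ _).1 (isoPart_slopePart (F := F) hτ μ)
  rcases subsingleton_or_nontrivial (Isoc.slopePart F μ) with hs | hs
  · intro x hx
    have : (⟨x, hx⟩ : Isoc.slopePart F μ) = 0 := Subsingleton.elim _ _
    rw [show x = 0 from congrArg Subtype.val this]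
    exact zero_mem _
  have hbij := restrict_bijective hτ hF hP
  obtain ⟨M, hM, hFM⟩ := exists_lattice_reduced hτ hbij hiso
  haveI := hM
  set G := (p : K(p, k)) ^ (-μ.num) • Isoc.iter (F.restrict hP) μ.den with hGdef
  have hGM : Isoc.latImg G 1 M = M := by
    rw [latImg_twist hτ, Nat.cast_one, mul_one, mul_one, hFM, pPow_pPow, neg_add_cancel, pPow_zero]
  have htop := span_fixed_eq_top (c := a * μ.den) (mul_ne_zero ha (by exact_mod_cast μ.den_ne_zero))
    (hτ.pow μ.den) (frob_pow_apply a μ.den) (twist_bijective hbij (-μ.num) μ.den) M hGM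
  intro x hx
  have hx' : (⟨x, hx⟩ : Isoc.slopePart F μ) ∈ Submodule.span K(p, k) {v | G v = v} := htop ▸ Submodule.mem_top
  refine (Submodule.span_le.2 ?_ :
    Submodule.span K(p, k) {v | G v = v} ≤
      (Submodule.span K(p, k) (stdVectors F)).comap (Isoc.slopePart F μ).subtype) hx'
  intro v hv
  refine Submodule.subset_span ⟨μ.num, μ.den, μ.pos, μ.reduced, ?_⟩
  have h1 : (p : K(p, k)) ^ (-μ.num) • (⇑(F.restrict hP))^[μ.den] v = v := hv
  have h2 := congrArg (fun z : Isoc.slopePart F μ => (p : K(p, k)) ^ μ.num • (z : N)) h1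
  simp only [Submodule.coe_smul, coe_iterate_restrict, smul_smul, ← zpow_add₀ (p_ne_zero (p := p) (k := k)),
    add_neg_cancel, zpow_zero, one_smul] at h2
  exact h2

theorem exists_hom_of_stdVector {F : N →ₛₗ[τ] N} {d : ℤ} {h : ℕ} (hh : 0 < h) {v : N}
    (hv : (⇑F)^[h] v = (p : K(p, k)) ^ d • v) :
    ∃ f : (Fin h → K(p, k)) →ₗ[K(p, k)] N, (∀ x, f (Isoc.stdIsoc τ d h x) = F (f x)) ∧
      v ∈ LinearMap.range f := by
  let b := Pi.basisFun K(p, k) (Fin h)
  let f := b.constr K(p, k) fun i => (⇑F)^[(i : ℕ)] v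
  have hf : ∀ i, f (Pi.single i 1) = (⇑F)^[(i : ℕ)] v := fun i => by
    rw [← Pi.basisFun_apply]; exact b.constr_basis _ _ i
  refine ⟨f, fun x => ?_, ⟨Pi.single ⟨0, hh⟩ 1, hf _⟩⟩
  have key : ∀ i, f (Isoc.stdIsoc τ d h (Pi.single i 1)) = F (f (Pi.single i 1)) := by
    intro i
    rw [hf, ← Function.iterate_succ_apply' (⇑F)]
    by_cases hi : (i : ℕ) + 1 < h
    · rw [show i = ⟨(i : ℕ), by omega⟩ from rfl, stdIsoc_single_succ (i : ℕ) hi, map_one, hf]
    · have hih : (i : ℕ) + 1 = h := by omega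
      rw [show i = ⟨h - 1, by omega⟩ from Fin.ext (by simp only; omega), stdIsoc_single_last hh,
        map_one, mul_one, show ((p : K(p, k)) ^ d) = (p : K(p, k)) ^ d • (1 : K(p, k)) by simp,
        Pi.single_smul', map_smul, hf]
      simp only
      rw [show (h - 1).succ = h by omega, hv]
      simp
  conv_lhs => rw [← b.sum_repr x]
  conv_rhs => rw [← b.sum_repr x]
  simp only [map_sum, LinearMap.map_smulₛₗ, map_smul, b, Pi.basisFun_apply, key, RingHom.id_apply]

theorem range_le_or_disjoint {F : N →ₛₗ[τ] N} (hτ : Good τ) {d : ℤ} {h : ℕ} (hh : 0 < h)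
    (hdh : Int.gcd d h = 1) {f : (Fin h → K(p, k)) →ₗ[K(p, k)] N}
    (hf : ∀ x, f (Isoc.stdIsoc τ d h x) = F (f x)) {Q : Submodule K(p, k) N}
    (hQ : ∀ x ∈ Q, F x ∈ Q) : LinearMap.range f ≤ Q ∨ Disjoint (LinearMap.range f) Q := by
  rcases stdIsoc_simple hτ hh hdh (Q.comap f) (fun x hx => by
    rw [Submodule.mem_comap, hf]; exact hQ _ hx) with hb | ht
  · refine Or.inr (Submodule.disjoint_def.2 ?_)
    rintro _ ⟨x, rfl⟩ hx
    have : x ∈ Q.comap f := hx
    rw [hb, Submodule.mem_bot] at this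
    rw [this, map_zero]
  · exact Or.inl (by rintro _ ⟨x, rfl⟩; exact (ht.ge Submodule.mem_top : x ∈ Q.comap f))

theorem exists_isCompl [IsAlgClosed k] {a : ℤ} (ha : a ≠ 0)
    {F : N →ₛₗ[Isoc.frob p k a] N} (hF : Function.Bijective F) (P : Submodule K(p, k) N)
    (hP : ∀ x ∈ P, F x ∈ P) :
    ∃ Q : Submodule K(p, k) N, (∀ x ∈ Q, F x ∈ Q) ∧ IsCompl P Q := by
  have hτ := good_frob (p := p) (k := k) a
  obtain ⟨Q, ⟨hQ, hQd⟩, hmax⟩ := (wellFounded_gt (α := Submodule K(p, k) N)).has_min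
    {Q : Submodule K(p, k) N | (∀ x ∈ Q, F x ∈ Q) ∧ Disjoint P Q}
    ⟨⊥, fun x hx => by rw [(Submodule.mem_bot _).1 hx, map_zero]; exact zero_mem _, disjoint_bot_right⟩
  refine ⟨Q, hQ, hQd, codisjoint_iff.2 (eq_top_iff.2 ?_)⟩
  rw [← span_stdVectors ha hF, Submodule.span_le]
  rintro v ⟨d, h, hh, hdh, hv⟩
  obtain ⟨f, hf, hvf⟩ := exists_hom_of_stdVector hh hv
  have hPQ : ∀ x ∈ P ⊔ Q, F x ∈ P ⊔ Q := fun x hx => by
    obtain ⟨y, hy, z, hz, rfl⟩ := Submodule.mem_sup.1 hx
    rw [map_add]; exact Submodule.add_mem_sup (hP y hy) (hQ z hz)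
  rcases range_le_or_disjoint hτ hh hdh hf hPQ with hle | hd
  · exact hle hvf
  · by_contra hvn
    refine hmax (Q ⊔ LinearMap.range f) ⟨fun x hx => ?_, ?_⟩ (lt_of_le_not_ge le_sup_left fun hle => ?_)
    · obtain ⟨y, hy, _, ⟨z, rfl⟩, rfl⟩ := Submodule.mem_sup.1 hx
      rw [map_add, ← hf]
      exact Submodule.add_mem_sup (hQ y hy) ⟨_, rfl⟩
    · exact hQd.disjoint_sup_right_of_disjoint_sup_left hd.symm
    · exact hvn (Submodule.mem_sup_right (hle (Submodule.mem_sup_right hvf)))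

end Groth.Agent.Isoc53
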