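import Groth.Agent.Isoc53.Det
import Mathlib

/-!
Orders of the iterates on a lattice and the first slope.
-/

set_option autoImplicit false
set_option linter.unusedSectionVars false
universe u v w
open scoped Isocrystal
open Filter Topology

namespace Groth.Agent.Isoc53

variable {p : ℕ} [Fact p.Prime] {k : Type u} [Field k] [CharP k p] [PerfectRing k p]
variable {N : Type v} [AddCommGroup N] [Module (WittVector p k) N] [Module K(p, k) N]
  [IsScalarTower (WittVector p k) K(p, k) N]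
variable {τ : K(p, k) →+* K(p, k)} {F : N →ₛₗ[τ] N}

theorem le_pPow_iff_of_isOrd {M : Submodule (WittVector p k) N} {s : ℕ} {r : ℤ}
    (h : Isoc.IsOrd M F s r) {j : ℤ} : Isoc.latImg F s M ≤ Isoc.pPow j M ↔ j ≤ r := by
  refine ⟨fun hj => ?_, fun hj => h.1.trans (pPow_le_pPow hj M)⟩
  by_contra hlt
  exact h.2 (hj.trans (pPow_le_pPow (by omega) M))

theorem isOrd_unique {M : Submodule (WittVector p k) N} {s : ℕ} {r r' : ℤ}
    (h : Isoc.IsOrd M F s r) (h' : Isoc.IsOrd M F s r') : r = r' :=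
  le_antisymm ((le_pPow_iff_of_isOrd h').1 h.1) ((le_pPow_iff_of_isOrd h).1 h'.1)

variable [Module.Finite K(p, k) N]

theorem not_le_pPow_one [Nontrivial N] (M : Submodule (WittVector p k) N) [M.IsLattice K(p, k)] :
    ¬ M ≤ Isoc.pPow 1 M := by
  intro h
  obtain ⟨x, hx, hx0⟩ := exists_ne_zero_mem (p := p) (k := k) M
  refine hx0 (eq_zero_of_forall_mem_pPow M fun n => ?_)
  suffices hn : M ≤ Isoc.pPow (n : ℤ) M from hn hx
  induction n with
  | zero => rw [Nat.cast_zero, pPow_zero]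
  | succ n ih =>
    have := ih.trans (pPow_mono (n : ℤ) h)
    rwa [pPow_pPow, ← Nat.cast_succ] at this

section Fixed

variable (hτ : Good τ) (hF : Function.Bijective F)
include hτ hF

theorem latImg_eq_pPow_mul (M : Submodule (WittVector p k) N) {s : ℕ} {r : ℤ}
    (h : Isoc.latImg F s M = Isoc.pPow r M) (j : ℕ) :
    Isoc.latImg F (j * s) M = Isoc.pPow ((j : ℤ) * r) M := by
  induction j with
  | zero => rw [zero_mul, latImg_zero, Nat.cast_zero, zero_mul, pPow_zero]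
  | succ j ih =>
    rw [add_mul, one_mul, add_comm, ← latImg_latImg hτ, ih, latImg_pPow hτ, h, pPow_pPow]
    push_cast; ring_nf

theorem isOrd_of_eq [Nontrivial N] (M : Submodule (WittVector p k) N) [M.IsLattice K(p, k)]
    {s : ℕ} {r : ℤ} (h : Isoc.latImg F s M = Isoc.pPow r M) : Isoc.IsOrd M F s r := by
  refine ⟨h.le, fun hle => not_le_pPow_one (p := p) (k := k) M ?_⟩
  rw [h, pPow_le_pPow_iff, add_sub_cancel_left] at hle
  exact hle

theorem exists_isOrd [Nontrivial N] (M : Submodule (WittVector p k) N) [M.IsLattice K(p, k)] (s : ℕ) :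
    ∃ r, Isoc.IsOrd M F s r := by
  haveI := isLattice_latImg hτ hF s M
  obtain ⟨j, hj⟩ := exists_le_pPow (p := p) (k := k) (Isoc.latImg F s M) M
  let b := Module.finBasis K(p, k) N
  obtain ⟨d, hd⟩ := exists_isOrdP_detCoeff b hF
  have hh : 0 < Module.finrank K(p, k) N := Module.finrank_pos
  obtain ⟨r, hr, hmax⟩ := Int.exists_greatest_of_bdd
    (P := fun r => Isoc.latImg F s M ≤ Isoc.pPow r M) ⟨max ((s : ℤ) * d) 0, fun z hz => by
      have h1 := (order_le hτ b hd M hz).1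
      by_contra hlt
      have hz0 : 0 ≤ z := by omega
      nlinarith [mul_le_mul_of_nonneg_left (show (1 : ℤ) ≤ (Module.finrank K(p, k) N : ℤ) by omega) hz0,
        le_max_left ((s : ℤ) * d) 0]⟩ ⟨j, hj⟩
  exact ⟨r, hr, fun hle => by have := hmax _ hle; omega⟩

theorem isOrd_add_le (M : Submodule (WittVector p k) N) {m n : ℕ} {a b c : ℤ}
    (ha : Isoc.IsOrd M F m a) (hb : Isoc.IsOrd M F n b) (hc : Isoc.IsOrd M F (m + n) c) :
    a + b ≤ c := by
  rw [← le_pPow_iff_of_isOrd hc, ← latImg_latImg hτ, add_comm a b, ← pPow_pPow]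
  refine le_trans ?_ (pPow_mono b ha.1)
  rw [← latImg_pPow hτ]
  exact latImg_mono m hb.1

theorem mul_le_of_isOrd (M : Submodule (WittVector p k) N) {r : ℤ} (hr : Isoc.IsOrd M F 1 r) :
    ∀ n : ℕ, Isoc.latImg F n M ≤ Isoc.pPow ((n : ℤ) * r) M := by
  intro n
  induction n with
  | zero => rw [latImg_zero, Nat.cast_zero, zero_mul, pPow_zero]
  | succ n ih =>
    rw [add_comm n, ← latImg_latImg hτ]
    refine (latImg_mono 1 ih).trans ?_
    rw [latImg_pPow hτ]
    refine (pPow_mono _ hr.1).trans (le_of_eq ?_)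
    rw [pPow_pPow]; push_cast; ring_nf

theorem exists_tendsto [Nontrivial N] (M : Submodule (WittVector p k) N) [M.IsLattice K(p, k)] :
    ∃ o : ℕ → ℤ, (∀ n : ℕ, 1 ≤ n → Isoc.IsOrd M F n (o n)) ∧
      ∃ lam : ℝ, Tendsto (fun n : ℕ => (o n : ℝ) / n) atTop (𝓝 lam) := by
  choose o ho using fun n => exists_isOrd hτ hF M n
  refine ⟨o, fun n _ => ho n, ?_⟩
  have hsub : Subadditive (fun n => -(o n : ℝ)) := fun m n => by
    have := isOrd_add_le hτ hF M (ho m) (ho n) (ho (m + n))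
    have : (o m : ℝ) + o n ≤ o (m + n) := by exact_mod_cast this
    linarith
  let b := Module.finBasis K(p, k) N
  obtain ⟨d, hd⟩ := exists_isOrdP_detCoeff b hF
  have hh : (0 : ℝ) < Module.finrank K(p, k) N := by exact_mod_cast Module.finrank_pos
  refine ⟨-hsub.lim, ?_⟩
  have hbdd : BddBelow (Set.range fun n => -(o n : ℝ) / n) := by
    refine ⟨min 0 (-((d : ℝ) / Module.finrank K(p, k) N)), ?_⟩
    rintro _ ⟨n, rfl⟩
    rcases Nat.eq_zero_or_pos n with rfl | hn
    · simp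
    refine (min_le_right _ _).trans ?_
    have h1 := (order_le hτ b hd M (ho n).1).1
    have h2 : (o n : ℝ) * Module.finrank K(p, k) N ≤ (n : ℝ) * d := by exact_mod_cast h1
    simp only [neg_div, neg_le_neg_iff]; rw [div_le_div_iff₀ (by exact_mod_cast hn) hh]
    linarith
  refine ((hsub.tendsto_lim hbdd).neg).congr fun n => ?_
  rw [neg_div, neg_neg]

theorem lim_le_lim {M₁ M₂ : Submodule (WittVector p k) N} [M₁.IsLattice K(p, k)] [M₂.IsLattice K(p, k)]
    {o₁ o₂ : ℕ → ℤ} (ho₁ : ∀ n : ℕ, 1 ≤ n → Isoc.IsOrd M₁ F n (o₁ n))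
    (ho₂ : ∀ n : ℕ, 1 ≤ n → Isoc.IsOrd M₂ F n (o₂ n)) {lam₁ lam₂ : ℝ}
    (h₁ : Tendsto (fun n : ℕ => (o₁ n : ℝ) / n) atTop (𝓝 lam₁))
    (h₂ : Tendsto (fun n : ℕ => (o₂ n : ℝ) / n) atTop (𝓝 lam₂)) : lam₁ ≤ lam₂ := by
  obtain ⟨i, hi⟩ := exists_le_pPow (p := p) (k := k) M₂ M₁
  obtain ⟨j, hj⟩ := exists_le_pPow (p := p) (k := k) M₁ M₂
  have key : ∀ n : ℕ, 1 ≤ n → o₁ n + (i + j) ≤ o₂ n := fun n hn => by
    rw [← le_pPow_iff_of_isOrd (ho₂ n hn)]
    refine (latImg_mono n hi).trans ?_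
    rw [latImg_pPow hτ]
    refine (pPow_mono i ((ho₁ n hn).1.trans (pPow_mono _ hj))).trans (le_of_eq ?_)
    rw [pPow_pPow, pPow_pPow]; ring_nf
  have h0 : Tendsto (fun n : ℕ => ((i + j : ℤ) : ℝ) / n) atTop (𝓝 0) :=
    tendsto_const_nhds.div_atTop tendsto_natCast_atTop_atTop
  have := h₁.add h0
  rw [add_zero] at this
  refine le_of_tendsto_of_tendsto this h₂ ?_
  filter_upwards [eventually_ge_atTop 1] with n hn
  rw [← add_div]
  refine div_le_div_of_nonneg_right ?_ (Nat.cast_nonneg n)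
  exact_mod_cast key n hn

theorem lim_unique {M₁ M₂ : Submodule (WittVector p k) N} [M₁.IsLattice K(p, k)] [M₂.IsLattice K(p, k)]
    {o₁ o₂ : ℕ → ℤ} (ho₁ : ∀ n : ℕ, 1 ≤ n → Isoc.IsOrd M₁ F n (o₁ n))
    (ho₂ : ∀ n : ℕ, 1 ≤ n → Isoc.IsOrd M₂ F n (o₂ n)) {lam₁ lam₂ : ℝ}
    (h₁ : Tendsto (fun n : ℕ => (o₁ n : ℝ) / n) atTop (𝓝 lam₁))
    (h₂ : Tendsto (fun n : ℕ => (o₂ n : ℝ) / n) atTop (𝓝 lam₂)) : lam₁ = lam₂ :=
  le_antisymm (lim_le_lim hτ hF ho₁ ho₂ h₁ h₂) (lim_le_lim hτ hF ho₂ ho₁ h₂ h₁)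

theorem isFirstSlope_unique {l l' : ℝ} (h : Isoc.IsFirstSlope F l) (h' : Isoc.IsFirstSlope F l') :
    l = l' := by
  obtain ⟨M, hM, o, ho, hl⟩ := h
  obtain ⟨M', hM', o', ho', hl'⟩ := h'
  exact lim_unique hτ hF ho ho' hl hl'

theorem exists_isFirstSlope [Nontrivial N] : ∃ l, Isoc.IsFirstSlope F l := by
  obtain ⟨M, hM⟩ := exists_lattice (p := p) (k := k) (N := N)
  obtain ⟨o, ho, l, hl⟩ := exists_tendsto hτ hF M
  exact ⟨l, M, hM, o, ho, hl⟩

theorem nontrivial_of_isFirstSlope {l : ℝ} (h : Isoc.IsFirstSlope F l) : Nontrivial N := by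
  obtain ⟨M, hM, o, ho, -⟩ := h
  by_contra hn
  rw [not_nontrivial_iff_subsingleton] at hn
  exact (ho 1 le_rfl).2 fun x _ => by rw [Subsingleton.elim x 0]; exact zero_mem _

/-- The orders on any lattice tend to the first slope. -/
theorem tendsto_of_isFirstSlope {l : ℝ} (h : Isoc.IsFirstSlope F l)
    (M : Submodule (WittVector p k) N) [M.IsLattice K(p, k)] :
    ∃ o : ℕ → ℤ, (∀ n : ℕ, 1 ≤ n → Isoc.IsOrd M F n (o n)) ∧
      Tendsto (fun n : ℕ => (o n : ℝ) / n) atTop (𝓝 l) := by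
  haveI := nontrivial_of_isFirstSlope hτ hF h
  obtain ⟨o, ho, l', hl'⟩ := exists_tendsto hτ hF M
  obtain ⟨M', hM', o', ho', hl⟩ := h
  exact ⟨o, ho, lim_unique hτ hF ho ho' hl' hl ▸ hl'⟩

theorem div_le_of_latImg_le {l : ℝ} (h : Isoc.IsFirstSlope F l) {M : Submodule (WittVector p k) N}
    [M.IsLattice K(p, k)] {s : ℕ} (hs : 0 < s) {r : ℤ} (hle : Isoc.latImg F s M ≤ Isoc.pPow r M) :
    (r : ℝ) / s ≤ l := by
  obtain ⟨o, ho, hl⟩ := tendsto_of_isFirstSlope hτ hF h M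
  have hsub := hl.comp (tendsto_id.atTop_mul_const' hs : Tendsto (fun j : ℕ => j * s) atTop atTop)
  refine le_of_tendsto_of_tendsto tendsto_const_nhds hsub ?_
  filter_upwards [eventually_ge_atTop 1] with j hj
  have hjs : 1 ≤ j * s := Nat.mul_pos hj hs
  have key : ∀ i : ℕ, Isoc.latImg F (i * s) M ≤ Isoc.pPow ((i : ℤ) * r) M := by
    intro i
    induction i with
    | zero => rw [zero_mul, latImg_zero, Nat.cast_zero, zero_mul, pPow_zero]
    | succ i ih =>
      rw [add_mul, one_mul, add_comm, ← latImg_latImg hτ]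
      refine (latImg_mono s ih).trans ?_
      rw [latImg_pPow hτ]
      refine (pPow_mono _ hle).trans (le_of_eq ?_)
      rw [pPow_pPow]; push_cast; ring_nf
  have h1 : (j : ℝ) * r ≤ o (j * s) := by
    exact_mod_cast (le_pPow_iff_of_isOrd (ho _ hjs)).1 (key j)
  simp only [Function.comp_apply, Nat.cast_mul]
  rw [div_le_div_iff₀ (by exact_mod_cast hs) (by exact_mod_cast hjs)]
  nlinarith [mul_le_mul_of_nonneg_right h1 (Nat.cast_nonneg (α := ℝ) s)]

theorem eq_div_of_latImg_eq {l : ℝ} (h : Isoc.IsFirstSlope F l) {M : Submodule (WittVector p k) N}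
    [M.IsLattice K(p, k)] {s : ℕ} (hs : 0 < s) {r : ℤ} (heq : Isoc.latImg F s M = Isoc.pPow r M) :
    l = (r : ℝ) / s := by
  haveI := nontrivial_of_isFirstSlope hτ hF h
  obtain ⟨o, ho, hl⟩ := tendsto_of_isFirstSlope hτ hF h M
  have hsub := hl.comp (tendsto_id.atTop_mul_const' hs : Tendsto (fun j : ℕ => j * s) atTop atTop)
  refine tendsto_nhds_unique hsub (tendsto_const_nhds.congr' ?_)
  filter_upwards [eventually_ge_atTop 1] with j hj
  have hjs : 1 ≤ j * s := Nat.mul_pos hj hs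
  have := isOrd_unique (ho _ hjs) (isOrd_of_eq hτ hF M (latImg_eq_pPow_mul hτ hF M heq j))
  simp only [Function.comp_apply, this]
  push_cast
  rw [mul_div_mul_left _ _ (by exact_mod_cast (by omega : j ≠ 0))]

theorem mul_le_orddet {l : ℝ} (h : Isoc.IsFirstSlope F l) {n : ℕ} (b : Module.Basis (Fin n) K(p, k) N)
    {d : ℤ} (hd : Isoc.IsOrdP (Isoc.detCoeff b F) d) : l * n ≤ d := by
  obtain ⟨M, hM, o, ho, hl⟩ := h
  refine le_of_tendsto (hl.mul_const (n : ℝ)) ?_
  filter_upwards [eventually_ge_atTop 1] with j hj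
  have h1 : (o j : ℝ) * n ≤ (j : ℝ) * d := by
    exact_mod_cast (order_le hτ b hd M (ho j hj).1).1
  rw [div_mul_eq_mul_div, div_le_iff₀ (by exact_mod_cast hj)]
  linarith

end Fixed

/-! ### Twisted iterates -/

theorem iterate_twist (m : ℤ) (n : ℕ) (j : ℕ) (x : N) :
    (⇑((p : K(p, k)) ^ m • Isoc.iter F n))^[j] x = (p : K(p, k)) ^ (m * j) • (⇑F)^[n * j] x := by
  induction j with
  | zero => simp
  | succ j ih =>
    rw [Function.iterate_succ_apply', ih, LinearMap.smul_apply, Isoc.iter_apply, iterate_map_smul,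
      map_zpow_p, smul_smul, ← zpow_add₀ p_ne_zero, ← Function.iterate_add_apply]
    push_cast; ring_nf

theorem twist_bijective (hF : Function.Bijective F) (m : ℤ) (n : ℕ) :
    Function.Bijective ((p : K(p, k)) ^ m • Isoc.iter F n) := by
  have : ⇑((p : K(p, k)) ^ m • Isoc.iter F n) = (fun x : N => (p : K(p, k)) ^ m • x) ∘ (⇑F)^[n] := rfl
  rw [this]
  exact (MulAction.bijective₀ (zpow_p_ne_zero m)).comp (hF.iterate n)

theorem latImg_twist (hτ : Good τ) (m : ℤ) (n j : ℕ) (M : Submodule (WittVector p k) N) :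
    Isoc.latImg ((p : K(p, k)) ^ m • Isoc.iter F n) j M
      = Isoc.pPow (m * j) (Isoc.latImg F (n * j) M) := by
  ext x
  rw [mem_latImg (hτ.pow n), mem_pPow, mem_latImg hτ]
  refine exists_congr fun y => and_congr_right fun _ => ?_
  rw [iterate_twist]
  constructor
  · rintro rfl
    rw [smul_smul, ← zpow_add₀ p_ne_zero, neg_add_cancel, zpow_zero, one_smul]
  · intro h
    rw [h, smul_smul, ← zpow_add₀ p_ne_zero, add_neg_cancel, zpow_zero, one_smul]

theorem isFirstSlope_twist (hτ : Good τ) (hF : Function.Bijective F) {l : ℝ}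
    (h : Isoc.IsFirstSlope F l) (m : ℤ) (n : ℕ) :
    Isoc.IsFirstSlope ((p : K(p, k)) ^ m • Isoc.iter F n) (n * l + m) := by
  obtain ⟨M, hM, o, ho, hl⟩ := h
  haveI := nontrivial_of_isFirstSlope hτ hF ⟨M, hM, o, ho, hl⟩
  let o' : ℕ → ℤ := fun q => if q = 0 then 0 else o q
  have ho' : ∀ q, Isoc.IsOrd M F q (o' q) := by
    intro q
    rcases Nat.eq_zero_or_pos q with rfl | hq
    · simpa [o'] using isOrd_of_eq hτ hF M (show Isoc.latImg F 0 M = Isoc.pPow 0 M by rw [latImg_zero, pPow_zero])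
    · simpa [o', hq.ne'] using ho q hq
  refine ⟨M, hM, fun j => o' (n * j) + m * j, fun j _ => ?_, ?_⟩
  · constructor
    · rw [latImg_twist hτ, pPow_le_pPow_iff, add_sub_cancel_right]
      exact (ho' _).1
    · rw [latImg_twist hτ, pPow_le_pPow_iff, show o' (n * j) + m * j + 1 - m * j = o' (n * j) + 1 by ring]
      exact (ho' _).2
  · rcases Nat.eq_zero_or_pos n with rfl | hn
    · refine tendsto_const_nhds.congr' ?_
      filter_upwards [eventually_ge_atTop 1] with j hj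
      have : (j : ℝ) ≠ 0 := by exact_mod_cast (by omega : j ≠ 0)
      simp [o']
      field_simp
    have hsub := hl.comp (tendsto_id.const_mul_atTop' hn : Tendsto (fun j : ℕ => n * j) atTop atTop)
    refine ((hsub.const_mul (n : ℝ)).add_const (m : ℝ)).congr' ?_
    filter_upwards [eventually_ge_atTop 1] with j hj
    have hj' : (j : ℝ) ≠ 0 := by exact_mod_cast (by omega : j ≠ 0)
    have hn' : (n : ℝ) ≠ 0 := by exact_mod_cast hn.ne'
    simp only [Function.comp_apply, o', if_neg (Nat.mul_ne_zero hn.ne' (by omega : j ≠ 0))]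
    push_cast
    field_simp

end Groth.Agent.Isoc53
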